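import Cfsg.Agent.Lib.OddConseq.Basic
import Cfsg.Agent.Lib.OddOrder.Solvable

/-!
# The hypothesis `OddSolvable` holds
-/

set_option autoImplicit false

namespace CfsgLib.OddConseq

universe u

/-- The odd order theorem in the form used by the files of this folder. -/
theorem oddSolvable : OddSolvable.{u} :=
  fun _ _ _ h => CfsgLib.OddOrder.odd_order_solvable h

end CfsgLib.OddConseq
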