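import Mathlib
import Cfsg.Prelude.Def_Solvable
import Cfsg.Agent.Lib.TransLinear.Transitive
import Cfsg.Agent.Lib.Fitting.Basic
import Cfsg.Agent.Lib.Char.PiPart

/-!
A solvable group of odd order transitive on the nonzero vectors of a vector space is semilinear,
and its Fitting subgroup is the group of scalars in it.
-/

set_option autoImplicit false
set_option linter.style.haveILetI false

namespace CfsgLib.OddConseq

theorem exists_good_prime {n : ℕ} (hn : 1 < n) :
    ∃ l : ℕ, l.Prime ∧ l ∣ 2 ^ n - 1 ∧ ¬ l ∣ n ∧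
      ∀ d, d ∣ n → d < n → Odd (n / d) → ¬ l ∣ 2 ^ d - 1 := by
  by_cases h6 : n = 6
  · subst h6
    refine ⟨7, by norm_num, by norm_num, by norm_num, fun d hd hd6 ho => ?_⟩
    interval_cases d <;> revert hd ho <;> decide
  obtain ⟨r, hr, hrd, hmin⟩ := NumberTheory.exists_primitive_prime one_lt_two hn
    (fun h => h6 h.2) (by
      rintro ⟨rfl, m, hm⟩
      rcases m with _ | _ | m
      · norm_num at hm
      · norm_num at hm
      · rw [pow_succ, pow_succ] at hm; omega)
  refine ⟨r, hr, hrd, fun hrn => ?_, fun d hd hdn _ => hmin d ?_ hdn⟩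
  · haveI := Fact.mk hr
    have h2 : ((2 : ℕ) : ZMod r) ≠ 0 := by
      intro h
      rw [ZMod.natCast_eq_zero_iff] at h
      have h2r : r = 2 := (Nat.prime_dvd_prime_iff_eq hr Nat.prime_two).mp h
      subst h2r
      have he : 2 ∣ 2 ^ n := dvd_pow_self 2 (by omega)
      have := Nat.one_le_two_pow (n := n)
      omega
    have h2n : ((2 : ℕ) : ZMod r) ^ n = 1 := by
      have h := (ZMod.natCast_eq_zero_iff _ _).mpr hrd
      rwa [Nat.cast_sub Nat.one_le_two_pow, Nat.cast_pow, Nat.cast_one, sub_eq_zero] at h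
    have hr1 : ¬ r ∣ 2 ^ (r - 1) - 1 := by
      rcases Nat.lt_or_ge (r - 1) n with h | h
      · exact hmin _ (by have := hr.two_le; omega) h
      · exact absurd (Nat.le_of_dvd (by omega) hrn) (by omega)
    apply hr1
    rw [← ZMod.natCast_eq_zero_iff, Nat.cast_sub Nat.one_le_two_pow, Nat.cast_pow, Nat.cast_one,
      ZMod.pow_card_sub_one_eq_one h2, sub_self]
  · exact Nat.pos_of_dvd_of_pos hd (by omega)

theorem fitting_of_odd_transitive_module {D E : Type*} [Group D] [Finite D]
    [AddCommGroup E] [Finite E] [Nontrivial E] [DistribMulAction D E] [FaithfulSMul D E]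
    {q : ℕ} [Module (ZMod q) E]
    (hs : Group.IsSolvable D) (hodd : Odd (Nat.card D)) (hq : q.Prime)
    (hE : ∀ e : E, q • e = 0) (htrans : ∀ a b : E, a ≠ 0 → b ≠ 0 → ∃ d : D, d • a = b) :
    IsCyclic ↥(Cfsg.fittingSubgroup D) ∧
      (∀ g ∈ Cfsg.fittingSubgroup D, g ≠ 1 → ∀ a : E, g • a = a → a = 0) ∧
      commutator D ≤ Cfsg.fittingSubgroup D := by
  classical
  haveI := hs
  haveI := Fact.mk hq
  haveI : SMulCommClass D (ZMod q) E :=
    ⟨fun d c x => ZMod.map_smul (DistribSMul.toAddMonoidHom E d) c x⟩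
  let ρ : D →* (E ≃ₗ[ZMod q] E) := DistribMulAction.toModuleAut (ZMod q) E
  have hρa : ∀ (d : D) (x : E), ρ d x = d • x := fun _ _ => rfl
  have hρ : Function.Injective ρ := fun a b h =>
    eq_of_smul_eq_smul fun x : E => by rw [← hρa, ← hρa, h]
  have htr : ∀ v w : E, v ≠ 0 → w ≠ 0 → ∃ g : D, ρ g v = w := fun v w hv hw => htrans v w hv hw
  have hdvd := TransLinear.card_sub_one_dvd (ρ := ρ) htr
  have hEodd : ¬ Odd (Nat.card E) := by
    intro ho
    obtain ⟨k, hk⟩ := ho
    have h1 : 1 < Nat.card E := Finite.one_lt_card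
    have h2 : 2 ∣ Nat.card D := (show 2 ∣ Nat.card E - 1 by omega).trans hdvd
    exact Nat.not_even_iff_odd.mpr hodd (even_iff_two_dvd.mpr h2)
  rcases TransLinear.transitive_main hρ htr with ⟨F, hF, hFf, e, he⟩ | h
  swap
  · exfalso
    simp only [Set.mem_insert_iff, Set.mem_singleton_iff] at h
    rcases h with h | h | h | h | h | h <;> rw [h] at hEodd <;> exact hEodd (by decide)
  have hone : e (e.symm 1) = (1 : F) := e.apply_symm_apply 1
  choose a σ hσ using he
  have he1 : ∀ g, e (g • e.symm 1) = a g := fun g => by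
    rw [← hρa, hσ, hone, map_one, mul_one]
  have ha0 : ∀ g, a g ≠ 0 := fun g h => by
    have h1 := hσ g (ρ g⁻¹ (e.symm 1))
    rw [← LinearEquiv.mul_apply, ← map_mul, mul_inv_cancel, map_one, h, zero_mul] at h1
    rw [show ((1 : E ≃ₗ[ZMod q] E)) (e.symm 1) = e.symm 1 from rfl, hone] at h1
    exact one_ne_zero h1
  have huniq : ∀ g (b : F) (τ : F ≃+* F), (∀ v, e (g • v) = b * τ (e v)) → a g = b ∧ σ g = τ := by
    intro g b τ h
    have hb : a g = b := by rw [← he1 g, h, hone, map_one, mul_one]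
    refine ⟨hb, RingEquiv.ext fun x => mul_left_cancel₀ (ha0 g) ?_⟩
    have h1 := hσ g (e.symm x)
    rw [hρa, h, e.apply_symm_apply] at h1
    rw [hb] at h1 ⊢
    exact h1.symm
  have hmul : ∀ g h, σ (g * h) = σ g * σ h := fun g h =>
    (huniq (g * h) (a g * σ g (a h)) (σ g * σ h) fun v => by
      rw [mul_smul, ← hρa, hσ, ← hρa, hσ, map_mul, mul_assoc]; rfl).2
  let S : D →* RingAut F := MonoidHom.mk' σ hmul
  set L : Subgroup D := S.ker with hL
  have hLv : ∀ g ∈ L, ∀ v, e (g • v) = a g * e v := fun g hg v => by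
    rw [← hρa, hσ, show σ g = 1 from MonoidHom.mem_ker.mp hg]; rfl
  have hLfree : ∀ g ∈ L, ∀ x : E, g • x = x → x ≠ 0 → g = 1 := by
    intro g hg x hx hx0
    have h1 := hLv g hg x
    rw [hx] at h1
    have hex : e x ≠ 0 := fun h => hx0 (e.map_eq_zero_iff.mp h)
    have hag : a g = 1 := mul_right_cancel₀ hex (by rw [one_mul]; exact h1.symm)
    refine eq_of_smul_eq_smul fun v : E => e.injective ?_
    rw [hLv g hg, hag, one_mul, one_smul]
  have hLmul : ∀ g ∈ L, ∀ h ∈ L, a (g * h) = a g * a h := fun g hg h hh => by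
    rw [← he1, mul_smul, hLv g hg, he1]
  let f : L →* Fˣ := MonoidHom.mk' (fun g => Units.mk0 (a g) (ha0 g)) fun g h =>
    Units.ext (hLmul g g.2 h h.2)
  have hf : Function.Injective f := fun g h hgh => by
    have h1 : a g = a h := congrArg Units.val hgh
    refine Subtype.ext (eq_of_smul_eq_smul fun v : E => e.injective ?_)
    rw [hLv g g.2, hLv h h.2, h1]
  haveI hLc : IsCyclic L := isCyclic_of_injective f hf
  have hLn : L.Normal := inferInstance
  -- the characteristic is two
  have hq2 : q = 2 := by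
    by_contra hne
    obtain ⟨n, hn⟩ := (IsPGroup.iff_card (p := q) (G := Multiplicative E)).mp fun x => ⟨1, by
      rw [pow_one]; exact congrArg Multiplicative.ofAdd (hE x.toAdd)⟩
    exact hEodd (by
      rw [Nat.card_congr Multiplicative.ofAdd, hn]; exact (hq.odd_of_ne_two hne).pow)
  subst hq2
  have h2F : (2 : F) = 0 := by
    have h1 := congrArg e (hE (e.symm 1))
    rw [map_zero, map_nsmul, hone, nsmul_eq_mul, mul_one, Nat.cast_ofNat] at h1
    exact h1
  haveI : CharP F 2 := CharTwo.of_one_ne_zero_of_two_eq_zero one_ne_zero h2F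
  letI : Algebra (ZMod 2) F := ZMod.algebra F 2
  let ι : RingAut F →* (F ≃ₐ[ZMod 2] F) :=
    { toFun := fun s => AlgEquiv.ofRingEquiv (f := s) fun c =>
        RingHom.congr_fun (Subsingleton.elim ((s : F →+* F).comp (algebraMap (ZMod 2) F))
          (algebraMap (ZMod 2) F)) c
      map_one' := by ext; rfl
      map_mul' := fun _ _ => by ext; rfl }
  have hι : Function.Injective ι := fun s t h => RingEquiv.ext fun x => AlgEquiv.congr_fun h x
  haveI : Finite (RingAut F) := Finite.of_injective ι hι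
  have hS : ∀ g h : D, S g * S h = S h * S g := fun g h => hι (by
    rw [map_mul, map_mul]
    letI := IsCyclic.commGroup (α := (F ≃ₐ[ZMod 2] F))
    exact mul_comm _ _)
  have hder : commutator D ≤ L := by
    rw [commutator_eq_closure, Subgroup.closure_le]
    rintro _ ⟨g, h, rfl⟩
    rw [SetLike.mem_coe, MonoidHom.mem_ker, map_commutatorElement]
    exact commutatorElement_eq_one_iff_mul_comm.mpr (hS g h)
  set F' := Cfsg.fittingSubgroup D
  haveI : Group.IsNilpotent L := by
    letI := IsCyclic.commGroup (α := L)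
    infer_instance
  have hLF : L ≤ F' := Fitting.le_fittingSubgroup hLn inferInstance
  suffices hFL : F' ≤ L by
    have heq : F' = L := le_antisymm hFL hLF
    refine ⟨heq ▸ hLc, fun g hg hg1 x hx => ?_, hder.trans hLF⟩
    by_contra hx0
    exact hg1 (hLfree g (hFL hg) x hx hx0)
  -- the dimension
  set n := Module.finrank (ZMod 2) F with hn
  have hcF : Nat.card F = 2 ^ n := by
    rw [Module.natCard_eq_pow_finrank (K := ZMod 2), Nat.card_zmod]
  have hcE : Nat.card E = 2 ^ n := by rw [Nat.card_congr e.toEquiv, hcF]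
  have hSdvd : Nat.card S.range ∣ n := by
    refine (Subgroup.card_dvd_of_injective (ι.comp S.range.subtype) (hι.comp Subtype.val_injective)).trans ?_
    rw [IsGalois.card_aut_eq_finrank]
  rcases Nat.lt_or_ge 1 n with hn1 | hn1
  swap
  · intro g _
    rw [MonoidHom.mem_ker]
    have hn0 : n = 1 := le_antisymm hn1 Module.finrank_pos
    rw [hn0, Nat.dvd_one] at hSdvd
    have h1 : S g ∈ S.range := ⟨g, rfl⟩
    rw [Subgroup.eq_bot_of_card_eq _ hSdvd, Subgroup.mem_bot] at h1
    exact h1
  obtain ⟨l, hl, hld, hln, hlprop⟩ := exists_good_prime hn1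
  haveI := Fact.mk hl
  have hlD : l ∣ Nat.card D := hld.trans (hcE ▸ hdvd)
  have hcard : Nat.card L * Nat.card S.range = Nat.card D := by
    rw [← Subgroup.index_ker, ← hL, Subgroup.card_mul_index]
  have hlL : l ∣ Nat.card L :=
    (hl.dvd_mul.mp (hcard.symm ▸ hlD)).resolve_right fun h => hln (h.trans hSdvd)
  obtain ⟨⟨x, hxL⟩, hxo⟩ := exists_prime_orderOf_dvd_card' l hlL
  rw [Subgroup.orderOf_mk] at hxo
  have hx1 : a x ≠ 1 := fun h => by
    have hxe : x = 1 := eq_of_smul_eq_smul fun v : E => e.injective (by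
      rw [hLv x hxL, h, one_mul, one_smul])
    rw [hxe, orderOf_one] at hxo
    exact hl.one_lt.ne hxo
  have hxl : (a x) ^ l = 1 := by
    have h1 : f (⟨x, hxL⟩) ^ l = 1 := by
      rw [← map_pow, show (⟨x, hxL⟩ : L) ^ l = 1 from
        Subtype.ext (by simp [← hxo, pow_orderOf_eq_one]), map_one]
    have h2 := congrArg Units.val h1
    simpa [f] using h2
  have hcommL : ∀ g : D, g * x = x * g → S g = 1 := by
    intro g hgx
    have hfix : σ g (a x) = a x := by
      have h1 := congrArg (fun d : D => e (d • e.symm 1)) hgx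
      simp only [mul_smul] at h1
      rw [← hρa g, hσ, he1, hLv x hxL, he1, mul_comm (a x) (a g)] at h1
      exact mul_left_cancel₀ (ha0 g) h1
    by_contra hne
    let T : Subgroup (RingAut F) := Subgroup.zpowers (S g)
    haveI : Fintype T := Fintype.ofFinite T
    haveI : FaithfulSMul T F := ⟨fun {s t} h => Subtype.ext (RingEquiv.ext fun y => h y)⟩
    have hfin := FixedPoints.finrank_eq_card T F
    set K := FixedPoints.subfield T F
    haveI : Fintype K := Fintype.ofFinite K
    have hm : Fintype.card T = orderOf (S g) := by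
      rw [← Nat.card_eq_fintype_card, Nat.card_zpowers]
    have hmodd : Odd (orderOf (S g)) :=
      hodd.of_dvd_nat ((orderOf_map_dvd S g).trans (orderOf_dvd_natCard g))
    have hm1 : 1 < orderOf (S g) := by
      rcases hmodd with ⟨k, hk⟩
      have : orderOf (S g) ≠ 1 := fun h => hne (orderOf_eq_one_iff.mp h)
      omega
    haveI : CharP K 2 := CharP.subring F 2 K.toSubring
    letI : Algebra (ZMod 2) K := ZMod.algebra K 2
    have hK : Nat.card K = 2 ^ Module.finrank (ZMod 2) K := by
      rw [Module.natCard_eq_pow_finrank (K := ZMod 2), Nat.card_zmod]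
    set d := Module.finrank (ZMod 2) K
    have hFK : Nat.card F = (2 ^ d) ^ orderOf (S g) := by
      rw [Module.natCard_eq_pow_finrank (K := K), hK, hfin, hm]
    rw [hcF, ← pow_mul] at hFK
    have hdn : n = d * orderOf (S g) := Nat.pow_right_injective le_rfl hFK
    have hd0 : 0 < d := by
      rcases Nat.eq_zero_or_pos d with h | h
      · rw [h, zero_mul] at hdn; omega
      · exact h
    have haK : a x ∈ K := by
      rintro ⟨t, ht⟩
      obtain ⟨k, rfl⟩ := Subgroup.mem_zpowers_iff.mp ht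
      exact zpow_mem (K := MulAction.stabilizer (RingAut F) (a x)) (show S g ∈ _ from hfix) k
    have hK0 : (⟨a x, haK⟩ : K) ≠ 0 := fun h => ha0 x (congrArg Subtype.val h)
    have h1 := congrArg Subtype.val (FiniteField.pow_card_sub_one_eq_one (⟨a x, haK⟩ : K) hK0)
    rw [← Nat.card_eq_fintype_card, hK, SubmonoidClass.coe_pow, OneMemClass.coe_one] at h1
    have h2 : l ∣ 2 ^ d - 1 :=
      (orderOf_eq_prime hxl hx1) ▸ orderOf_dvd_of_pow_eq_one h1
    refine hlprop d ⟨_, hdn⟩ ?_ ?_ h2
    · rw [hdn]; exact lt_mul_of_one_lt_right hd0 hm1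
    · rw [hdn, Nat.mul_div_cancel_left _ hd0]; exact hmodd
  intro g hg
  rw [MonoidHom.mem_ker]
  set k := (orderOf g).factorization l
  set h := g ^ l ^ k with hh
  have hoh : (orderOf h).Coprime l := by
    rw [hh, orderOf_pow, Nat.gcd_eq_right (Nat.ordProj_dvd (orderOf g) l), Nat.coprime_comm,
      hl.coprime_iff_not_dvd]
    exact Nat.not_dvd_ordCompl hl (orderOf_pos g).ne'
  haveI : Group.IsNilpotent F' := Fitting.fittingSubgroup_isNilpotent
  have hc : (⟨h, pow_mem hg _⟩ : F') * ⟨x, hLF hxL⟩ = ⟨x, hLF hxL⟩ * ⟨h, pow_mem hg _⟩ :=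
    Char.PiPart.commute_of_coprime (by rw [Subgroup.orderOf_mk, Subgroup.orderOf_mk, hxo]; exact hoh)
  have hh1 : S h = 1 := hcommL h (congrArg Subtype.val hc)
  have hd1 : orderOf (S g) ∣ l ^ k := orderOf_dvd_of_pow_eq_one (by rw [← map_pow]; exact hh1)
  have hd2 : orderOf (S g) ∣ n :=
    (Subgroup.orderOf_dvd_natCard S.range (⟨g, rfl⟩ : S g ∈ S.range)).trans hSdvd
  exact orderOf_eq_one_iff.mp (Nat.eq_one_of_dvd_coprimes
    (Nat.Coprime.pow_left k (hl.coprime_iff_not_dvd.mpr hln)) hd1 hd2)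

/-- The conclusion for the Fitting subgroup, given solvability. -/
theorem fitting_of_odd_transitive {D E : Type*} [Group D] [Finite D]
    [AddCommGroup E] [Finite E] [Nontrivial E] [DistribMulAction D E] [FaithfulSMul D E]
    (hs : Group.IsSolvable D) (hodd : Odd (Nat.card D)) {q : ℕ} (hq : q.Prime)
    (hE : ∀ e : E, q • e = 0) (htrans : ∀ a b : E, a ≠ 0 → b ≠ 0 → ∃ d : D, d • a = b) :
    IsCyclic ↥(Cfsg.fittingSubgroup D) ∧
      (∀ g ∈ Cfsg.fittingSubgroup D, g ≠ 1 → ∀ a : E, g • a = a → a = 0) ∧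
      commutator D ≤ Cfsg.fittingSubgroup D :=
  letI : Module (ZMod q) E := AddCommGroup.zmodModule hE
  fitting_of_odd_transitive_module hs hodd hq hE htrans

end CfsgLib.OddConseq
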