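import Mathlib

/-!
# Consequences of the odd order theorem

The odd order theorem enters these files as the hypothesis `OddSolvable`.
-/

set_option autoImplicit false

namespace CfsgLib.OddConseq

universe u

/-- Every finite group of odd order (in the universe `u`) is solvable. -/
def OddSolvable : Prop :=
  ∀ (G : Type u) [Group G] [Finite G], Odd (Nat.card G) → Group.IsSolvable G

/-- Of two subgroups of coprime orders one is solvable. -/
theorem OddSolvable.or_of_coprime (hFT : OddSolvable.{u}) {G : Type u} [Group G] [Finite G]
    {A B : Subgroup G} (h : (Nat.card A).Coprime (Nat.card B)) :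
    Group.IsSolvable A ∨ Group.IsSolvable B := by
  rcases Nat.even_or_odd (Nat.card A) with ha | ha
  · refine Or.inr (hFT B (Nat.not_even_iff_odd.mp fun hb => ?_))
    exact Nat.not_coprime_of_dvd_of_dvd one_lt_two ha.two_dvd hb.two_dvd h
  · exact Or.inl (hFT A ha)

end CfsgLib.OddConseq
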