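import Cfsg.Agent.Lib.OddConseq.Basic
import Cfsg.Agent.Lib.ZStar.AbelianSylowTwo
import Cfsg.Agent.Lib.TwoClassSizes.Basic

/-!
# Class sizes not divisible by four

If four divides no class size, the group is solvable, given the odd order theorem.  In a
counterexample without solvable normal subgroups a Sylow 2-subgroup `S` has exponent two and every
element centralizes a subgroup of index two of a conjugate of `S`.  An `N(S)`-orbit of an
involution has odd size and, by the Z*-theorem, product one, so it meets every such subgroup.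
Hence the centralizer of an involution meets every class, which is absurd.
-/

set_option autoImplicit false

namespace CfsgLib.OddConseq

open Cfsg

universe u

section

variable {G : Type u} [Group G] [Finite G]

/-- The squares of some Sylow 2-subgroup commute with a given element. -/
theorem exists_sylow_index_two_centralized
    (h : ∀ x : G, ¬ 4 ∣ (Subgroup.centralizer ({x} : Set G)).index) (g : G) :
    ∃ (Q : Sylow 2 G) (H : Subgroup (Q : Subgroup G)), (H = ⊤ ∨ H.index = 2) ∧
      ∀ q ∈ H, g * (q : G) = (q : G) * g := by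
  set C := Subgroup.centralizer ({g} : Set G) with hC
  obtain ⟨T⟩ : Nonempty (Sylow 2 C) := inferInstance
  obtain ⟨Q, hQ⟩ := (T.2.map C.subtype).exists_le_sylow
  set H := ((T : Subgroup C).map C.subtype).subgroupOf (Q : Subgroup G) with hH
  refine ⟨Q, H, ?_, fun q hq => ?_⟩
  · obtain ⟨i, hi⟩ : ∃ i : ℕ, i = H.index := ⟨_, rfl⟩
    have h2 : IsPGroup 2 (Q : Subgroup G) := Q.2
    obtain ⟨k, hk⟩ := h2.index H
    have hdvd : H.index ∣ C.index * (T : Subgroup C).index := by
      have h1 : H.index = ((T : Subgroup C).map C.subtype).relIndex (Q : Subgroup G) := rfl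
      have h3 := Subgroup.relIndex_mul_index hQ
      rw [h1, mul_comm C.index, ← Subgroup.index_map_subtype, ← h3]
      exact dvd_mul_right _ _
    have hodd : ¬ 2 ∣ (T : Subgroup C).index := T.not_dvd_index
    rw [hk] at hdvd
    have hk' : 2 ^ k ∣ C.index :=
      (Nat.Coprime.pow_left k ((Nat.prime_two.coprime_iff_not_dvd).mpr hodd)).dvd_of_dvd_mul_right
        hdvd
    rcases k with _ | _ | k
    · exact Or.inl (Subgroup.index_eq_one.mp (by rw [hk, pow_zero]))
    · exact Or.inr (by rw [hk, pow_one])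
    · exact absurd ((pow_dvd_pow 2 (by omega : 2 ≤ k + 2)).trans hk') (h g)
  · obtain ⟨t, -, ht⟩ := Subgroup.mem_subgroupOf.mp hq
    have := Subgroup.mem_centralizer_singleton_iff.mp t.2
    have ht' : (t : G) = (q : G) := ht
    rw [← ht']
    exact this.symm

/-- The hypothesis passes to quotients. -/
theorem not_four_dvd_quotient (h : ∀ x : G, ¬ 4 ∣ (Subgroup.centralizer ({x} : Set G)).index)
    (N : Subgroup G) [N.Normal] (y : G ⧸ N) :
    ¬ 4 ∣ (Subgroup.centralizer ({y} : Set (G ⧸ N))).index := by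
  obtain ⟨x, rfl⟩ := QuotientGroup.mk'_surjective N y
  refine fun hd => h x (hd.trans (dvd_trans ?_ (Subgroup.index_map_dvd
    (Subgroup.centralizer ({x} : Set G)) (QuotientGroup.mk'_surjective N))))
  refine Subgroup.index_dvd_of_le ?_
  rintro _ ⟨c, hc, rfl⟩
  rw [Subgroup.mem_centralizer_singleton_iff, ← map_mul, ← map_mul]
  exact congrArg _ (Subgroup.mem_centralizer_singleton_iff.mp hc)

/-- An element whose conjugates meet all centralizers is central. -/
theorem central_of_cover {a : G} (h : ∀ g : G, ∃ x : G, g * (x * a * x⁻¹) = x * a * x⁻¹ * g)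
    (g : G) : Commute a g := by
  have htop : Subgroup.centralizer ({a} : Set G) = ⊤ := by
    refine TwoClassSizes.eq_top_of_conj_cover fun g => ?_
    obtain ⟨x, hx⟩ := h g
    refine ⟨x, Subgroup.mem_centralizer_singleton_iff.mpr ?_⟩
    calc x⁻¹ * g * x * a = x⁻¹ * (g * (x * a * x⁻¹)) * x := by group
      _ = x⁻¹ * (x * a * x⁻¹ * g) * x := by rw [hx]
      _ = a * (x⁻¹ * g * x) := by group
  have := Subgroup.mem_centralizer_singleton_iff.mp (htop ▸ Subgroup.mem_top g :
    g ∈ Subgroup.centralizer ({a} : Set G))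
  exact this.symm

end

/-- In an index two subgroup a product lies inside iff evenly many factors lie outside. -/
theorem prod_mem_iff_even {M : Type*} [CommGroup M] {H : Subgroup M} (hH : H.index = 2)
    {ι : Type*} (s : Finset ι) (f : ι → M) (hf : ∀ i ∈ s, f i ∉ H) :
    ∏ i ∈ s, f i ∈ H ↔ Even s.card := by
  classical
  induction s using Finset.induction with
  | empty => simp [H.one_mem]
  | insert a s has ih =>
    rw [Finset.prod_insert has, Subgroup.mul_mem_iff_of_index_two hH,
      ih fun i hi => hf i (Finset.mem_insert_of_mem hi), Finset.card_insert_of_notMem has,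
      Nat.even_add_one]
    simp [hf a (Finset.mem_insert_self a s)]

theorem solvable_of_not_four_dvd (hFT : OddSolvable.{u}) : ∀ (n : ℕ) (G : Type u) [Group G]
    [Finite G], Nat.card G = n →
    (∀ x : G, ¬ 4 ∣ (Subgroup.centralizer ({x} : Set G)).index) → Group.IsSolvable G := by
  intro n
  induction n using Nat.strong_induction_on with
  | _ n ih =>
  intro G _ _ hn h
  classical
  by_contra hns
  -- no nontrivial solvable normal subgroup
  have hrad : ∀ N : Subgroup G, N.Normal → Group.IsSolvable N → N = ⊥ := by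
    intro N hN hsol
    by_contra hne
    have hlt : Nat.card (G ⧸ N) < n := by
      rw [← hn, ← Subgroup.index_eq_card, ← N.card_mul_index]
      exact lt_mul_of_one_lt_left (Nat.pos_of_ne_zero N.index_ne_zero_of_finite)
        (N.one_lt_card_iff_ne_bot.mpr hne)
    have := ih _ hlt (G ⧸ N) rfl (not_four_dvd_quotient h N)
    exact hns (Group.isSolvable_of_ker_le_range N.subtype (QuotientGroup.mk' N)
      (by rw [QuotientGroup.ker_mk', Subgroup.range_subtype]))
  have hcentral : ∀ a : G, (∀ g : G, Commute a g) → a = 1 := by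
    intro a ha
    have hN : (Subgroup.zpowers a).Normal := ⟨fun m hm g => by
      obtain ⟨k, rfl⟩ := Subgroup.mem_zpowers_iff.mp hm
      rw [((ha g).symm.zpow_right k).eq, mul_inv_cancel_right]
      exact ⟨k, rfl⟩⟩
    exact Subgroup.zpowers_eq_bot.mp (hrad _ hN inferInstance)
  have hO : pPrimeCore 2 G = ⊥ :=
    hrad _ (Transfer.pPrimeCore_normal 2 G) (hFT _ ZStar.odd_card_core)
  obtain ⟨S⟩ : Nonempty (Sylow 2 G) := inferInstance
  have hsq : ∀ s ∈ (S : Subgroup G), s * s = 1 := by
    intro s hs
    refine hcentral _ (central_of_cover fun g => ?_)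
    obtain ⟨Q, H, hH, hg⟩ := exists_sylow_index_two_centralized h g
    obtain ⟨c, rfl⟩ := MulAction.exists_smul_eq G S Q
    refine ⟨c, ?_⟩
    have hq : c * s * c⁻¹ ∈ ((c • S : Sylow 2 G) : Subgroup G) := by
      rw [Sylow.coe_subgroup_smul, Subgroup.mem_pointwise_smul_iff_inv_smul_mem]
      simpa [mul_assoc] using hs
    have hm : (⟨_, hq⟩ * ⟨_, hq⟩ : ((c • S : Sylow 2 G) : Subgroup G)) ∈ H := by
      rcases hH with hH | hH
      · rw [hH]; exact Subgroup.mem_top _
      · exact Subgroup.mul_self_mem_of_index_two hH _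
    simpa [mul_assoc] using hg _ hm
  have hcomm : ∀ a ∈ (S : Subgroup G), ∀ b ∈ (S : Subgroup G), Commute a b := by
    intro a ha b hb
    have h1 := hsq _ (mul_mem ha hb)
    have ha1 : a⁻¹ = a := inv_eq_of_mul_eq_one_right (hsq a ha)
    have hb1 : b⁻¹ = b := inv_eq_of_mul_eq_one_right (hsq b hb)
    show a * b = b * a
    conv_lhs => rw [← inv_inv (a * b), inv_eq_of_mul_eq_one_right h1, mul_inv_rev, ha1, hb1]
  have heven : 2 ∣ Nat.card G := by
    by_contra hodd
    exact hns (hFT G (Nat.odd_iff.mpr (Nat.two_dvd_ne_zero.mp hodd)))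
  obtain ⟨⟨a, haS⟩, ha1⟩ := (S : Subgroup G).ne_bot_iff_exists_ne_one.mp
    (S.ne_bot_of_dvd_card heven)
  replace ha1 : a ≠ 1 := fun e => ha1 (Subtype.ext e)
  letI : CommGroup (S : Subgroup G) :=
    { (inferInstance : Group (S : Subgroup G)) with
      mul_comm := fun x y => Subtype.ext (hcomm x x.2 y y.2) }
  set N := Subgroup.normalizer ((S : Subgroup G) : Set G) with hNdef
  set C := (Subgroup.centralizer ({a} : Set G)).subgroupOf N with hCdef
  letI : Fintype (N ⧸ C) := Fintype.ofFinite _
  have hcl : ∀ m : N, (m : G) * a * (m : G)⁻¹ ∈ (S : Subgroup G) := fun m =>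
    (Subgroup.mem_normalizer_iff.mp m.2 a).mp haS
  have hwd : ∀ m m' : N, (m : N ⧸ C) = (m' : N ⧸ C) →
      (m' : G) * a * (m' : G)⁻¹ = (m : G) * a * (m : G)⁻¹ := by
    intro m m' he
    have h1 := Subgroup.mem_centralizer_singleton_iff.mp
      (Subgroup.mem_subgroupOf.mp (QuotientGroup.eq.mp he))
    simp only [Subgroup.coe_mul, Subgroup.coe_inv] at h1
    calc (m' : G) * a * (m' : G)⁻¹
        = (m : G) * ((m : G)⁻¹ * m' * a) * (m' : G)⁻¹ := by group
      _ = (m : G) * (a * ((m : G)⁻¹ * m')) * (m' : G)⁻¹ := by rw [h1]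
      _ = (m : G) * a * (m : G)⁻¹ := by group
  set f : N ⧸ C → (S : Subgroup G) := fun q => ⟨_, hcl q.out⟩ with hf
  set σ : (S : Subgroup G) := ∏ q, f q with hσ
  have hfix : ∀ m : N, (m : G) * (σ : G) * (m : G)⁻¹ = (σ : G) := by
    intro m
    let φ : (S : Subgroup G) →* (S : Subgroup G) :=
      { toFun := fun x => ⟨(m : G) * x * (m : G)⁻¹, (Subgroup.mem_normalizer_iff.mp m.2 x).mp x.2⟩
        map_one' := Subtype.ext (by simp)
        map_mul' := fun x y => Subtype.ext (by simp [mul_assoc]) }
    have key : φ σ = σ := by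
      rw [hσ, map_prod]
      refine Fintype.prod_equiv (MulAction.toPerm m) _ _ fun q => Subtype.ext ?_
      show (m : G) * ((q.out : G) * a * (q.out : G)⁻¹) * (m : G)⁻¹ =
        ((m • q).out : G) * a * ((m • q).out : G)⁻¹
      rw [hwd (m * q.out) (m • q).out (by
        rw [QuotientGroup.out_eq']
        conv_rhs => rw [← QuotientGroup.out_eq' q]
        rfl)]
      simp [mul_assoc]
    exact congrArg Subtype.val key
  have hσ1 : (σ : G) = 1 := by
    by_contra hne
    have hord : orderOf (σ : G) = 2 :=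
      orderOf_eq_prime ((pow_two _).trans (hsq _ σ.2)) hne
    have hiso : ∀ g : G, g * (σ : G) * g⁻¹ ∈ S → g * (σ : G) * g⁻¹ = σ := by
      intro g hg
      obtain ⟨m, hm, he⟩ := ZStar.exists_normalizer_conj hcomm σ.2 hg
      rw [he]
      exact hfix ⟨m, hm⟩
    refine hne (hcentral _ fun g => ZStar.commute_of_commutatorsInCore hO
      (ZStar.commutatorsInCore_of_isolated (Invol.isolated_of_sylow S hord σ.2 hiso)) g)
  have hodd : Odd (Fintype.card (N ⧸ C)) := by
    rw [← Nat.card_eq_fintype_card, ← Subgroup.index_eq_card]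
    refine Nat.odd_iff.mpr (Nat.two_dvd_ne_zero.mp fun hd => ?_)
    have hSN : (S : Subgroup G) ≤ N := Subgroup.le_normalizer
    refine S.not_dvd_index (hd.trans ((Subgroup.index_dvd_of_le
      (H := (S : Subgroup G).subgroupOf N) fun x hx => ?_).trans ?_))
    · rw [hCdef, Subgroup.mem_subgroupOf, Subgroup.mem_centralizer_singleton_iff]
      exact hcomm _ hx _ haS
    · exact Subgroup.relIndex_dvd_index_of_le hSN
  refine ha1 (hcentral a (central_of_cover fun g => ?_))
  obtain ⟨Q, H, hH, hg⟩ := exists_sylow_index_two_centralized h g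
  obtain ⟨c, rfl⟩ := MulAction.exists_smul_eq G S Q
  let e : (S : Subgroup G) →* ((c • S : Sylow 2 G) : Subgroup G) :=
    { toFun := fun x => ⟨c * x * c⁻¹, by
        rw [Sylow.coe_subgroup_smul, Subgroup.mem_pointwise_smul_iff_inv_smul_mem]
        simp [mul_assoc]⟩
      map_one' := Subtype.ext (by simp)
      map_mul' := fun x y => Subtype.ext (by simp [mul_assoc]) }
  suffices ∃ q, e (f q) ∈ H by
    obtain ⟨q, hq⟩ := this
    refine ⟨c * q.out, ?_⟩
    simpa [e, hf, mul_assoc] using hg _ hq
  by_contra hno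
  push Not at hno
  rcases hH with hH | hH
  · exact hno (QuotientGroup.mk 1) (hH ▸ Subgroup.mem_top _)
  have he : Function.Surjective e := fun y => ⟨⟨c⁻¹ * y * c, by
    have key : ∀ z : G, z ∈ ((c • S : Sylow 2 G) : Subgroup G) → c⁻¹ * z * c ∈ (S : Subgroup G) :=
      fun z hz => by
      rw [Sylow.coe_subgroup_smul, Subgroup.mem_pointwise_smul_iff_inv_smul_mem] at hz
      simpa [mul_assoc] using hz
    exact key _ y.2⟩,
    Subtype.ext (by simp [e, mul_assoc])⟩
  have hidx : (H.comap e).index = 2 := by rw [Subgroup.index_comap_of_surjective H he, hH]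
  have hp := prod_mem_iff_even hidx Finset.univ f fun q _ => hno q
  rw [← hσ, show σ = 1 from Subtype.ext hσ1, Finset.card_univ] at hp
  exact Nat.not_even_iff_odd.mpr hodd (hp.mp (Subgroup.one_mem _))

end CfsgLib.OddConseq
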