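import Cfsg.Agent.Lib.OddConseq.Basic
import Cfsg.Agent.Lib.Hall.Basic
import Cfsg.Agent.Lib.Coprime.SchurZassenhaus
import Cfsg.Prelude.Def_OddOrderLocal

/-!
# Hall subgroups of π-separable groups
-/

set_option autoImplicit false
set_option linter.style.haveILetI false

open Pointwise

namespace CfsgLib.OddConseq

universe u

/-- All prime divisors lie in `π`. -/
def IsPiNum (π : Set ℕ) (n : ℕ) : Prop := ∀ q : ℕ, q.Prime → q ∣ n → q ∈ π

theorem IsPiNum.dvd {π : Set ℕ} {m n : ℕ} (h : IsPiNum π n) (hd : m ∣ n) : IsPiNum π m :=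
  fun q hq hqm => h q hq (hqm.trans hd)

theorem IsPiNum.coprime {π : Set ℕ} {m n : ℕ} (hm : IsPiNum π m)
    (hn : ∀ q : ℕ, q.Prime → q ∣ n → q ∉ π) : m.Coprime n :=
  Nat.coprime_of_dvd fun q hq h1 h2 => hn q hq h2 (hm q hq h1)

/-- A normal series with factors that are π- or π'-groups. -/
def Separable (π : Set ℕ) (G : Type u) [Group G] : Prop :=
  ∃ (n : ℕ) (H : Fin (n + 1) → Subgroup G), H 0 = ⊥ ∧ H (Fin.last n) = ⊤ ∧ Monotone H ∧
    (∀ i, (H i).Normal) ∧
    ∀ i : Fin n, (∀ q : ℕ, q.Prime → q ∣ (H i.castSucc).relIndex (H i.succ) → q ∈ π) ∨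
      (∀ q : ℕ, q.Prime → q ∣ (H i.castSucc).relIndex (H i.succ) → q ∉ π)

theorem relIndex_map_dvd {G G' : Type*} [Group G] [Group G'] (f : G →* G') (H K : Subgroup G) :
    (H.map f).relIndex (K.map f) ∣ H.relIndex K := by
  refine dvd_trans (Subgroup.index_dvd_of_le ?_)
    (Subgroup.index_map_dvd (f.subgroupMap_surjective K) (H := H.subgroupOf K))
  rintro _ ⟨x, hx, rfl⟩
  exact Subgroup.mem_map_of_mem f hx

theorem exists_dominating_hall (hFT : OddSolvable.{u}) (π : Set ℕ) (N : ℕ) :
    ∀ (G : Type u) [Group G] [Finite G], Nat.card G = N → Separable π G →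
      ∃ K : Subgroup G, Cfsg.IsPiHall π K ∧
        ∀ U : Subgroup G, IsPiNum π (Nat.card U) → ∃ g : G, U ≤ MulAut.conj g • K := by
  induction N using Nat.strong_induction_on with
  | _ N IH =>
  intro G _ _ hN hsep
  classical
  obtain ⟨n, H, h0, hlast, hmono, hnorm, hfac⟩ := hsep
  by_cases htriv : Nat.card G = 1
  · refine ⟨⊥, ⟨fun q hq hd => ?_, fun q hq _ hd => ?_⟩, fun U _ => ⟨1, ?_⟩⟩
    · rw [Subgroup.card_bot] at hd
      exact absurd (Nat.dvd_one.mp hd) hq.ne_one
    · rw [Subgroup.index_bot, htriv] at hd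
      exact absurd (Nat.dvd_one.mp hd) hq.ne_one
    · rw [map_one, one_smul]
      exact (Subgroup.eq_bot_of_card_eq U (Nat.dvd_one.mp (htriv ▸ Subgroup.card_subgroup_dvd_card U))).le
  -- the first non-trivial term of the series
  have hex : ∃ i : Fin (n + 1), H i ≠ ⊥ := by
    refine ⟨Fin.last n, ?_⟩
    rw [hlast]
    intro h
    exact htriv (by rw [← Subgroup.card_top (G := G), h, Subgroup.card_bot])
  obtain ⟨i, hi, hmin⟩ : ∃ i, H i ≠ ⊥ ∧ ∀ j < i, H j = ⊥ := by
    obtain ⟨i, hi, hle⟩ := (Finset.univ.filter fun i => H i ≠ ⊥).exists_minimal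
      (by obtain ⟨i, hi⟩ := hex; exact ⟨i, by simp [hi]⟩)
    refine ⟨i, (Finset.mem_filter.mp hi).2, fun j hj => ?_⟩
    by_contra hne
    exact absurd (hle (by simp [hne]) hj.le) (not_le.mpr hj)
  obtain ⟨j, rfl⟩ : ∃ j : Fin n, j.succ = i := by
    refine Fin.exists_succ_eq.mpr fun h => hi ?_
    rw [h]; exact h0
  set M := H j.succ with hM
  haveI : M.Normal := hnorm _
  have hfacM : IsPiNum π (Nat.card M) ∨ ∀ q : ℕ, q.Prime → q ∣ Nat.card M → q ∉ π := by
    have e : (H j.castSucc).relIndex (H j.succ) = Nat.card M := by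
      rw [hmin _ (Fin.castSucc_lt_succ), Subgroup.relIndex_bot_left]
    simpa only [e, IsPiNum] using hfac j
  set f := QuotientGroup.mk' M with hf
  have hsurj : Function.Surjective f := QuotientGroup.mk'_surjective M
  have hlt : Nat.card (G ⧸ M) < N := by
    rw [← hN, Subgroup.card_eq_card_quotient_mul_card_subgroup M]
    exact lt_mul_of_one_lt_right Nat.card_pos (Subgroup.one_lt_card_iff_ne_bot M |>.mpr hi)
  have hsep' : Separable π (G ⧸ M) := by
    refine ⟨n, fun k => (H k).map f, by simp only [h0, Subgroup.map_bot],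
      by simp only [hlast, Subgroup.map_top_of_surjective f hsurj], fun a b hab => Subgroup.map_mono (hmono hab),
      fun k => (hnorm k).map f hsurj, fun k => ?_⟩
    have hd : ((H k.castSucc).map f).relIndex ((H k.succ).map f) ∣ (H k.castSucc).relIndex (H k.succ) :=
      relIndex_map_dvd _ _ _
    rcases hfac k with h | h
    · exact Or.inl fun q hq hqd => h q hq (hqd.trans hd)
    · exact Or.inr fun q hq hqd => h q hq (hqd.trans hd)
  obtain ⟨K', hK', hdom'⟩ := IH _ hlt (G ⧸ M) rfl hsep'
  set L := K'.comap f with hL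
  have hML : M ≤ L := by
    intro x hx
    rw [hL, Subgroup.mem_comap]
    have : f x = 1 := (QuotientGroup.eq_one_iff x).mpr hx
    rw [this]; exact one_mem _
  have hLindex : L.index = K'.index := Subgroup.index_comap_of_surjective _ hsurj
  have hLmap : L.map f = K' := Subgroup.map_comap_eq_self_of_surjective hsurj K'
  have hLcard : Nat.card L = Nat.card M * Nat.card K' := by
    have h1 := L.card_mul_index
    have h2 := K'.card_mul_index
    have h3 := Subgroup.card_eq_card_quotient_mul_card_subgroup M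
    rw [hLindex] at h1
    rw [← h2] at h3
    refine Nat.eq_of_mul_eq_mul_right (Nat.pos_of_ne_zero (Subgroup.index_ne_zero_of_finite (H := K'))) ?_
    rw [h1, h3]; ring
  have hUL : ∀ U : Subgroup G, IsPiNum π (Nat.card U) → ∃ g : G, MulAut.conj g⁻¹ • U ≤ L := by
    intro U hU
    obtain ⟨y, hy⟩ := hdom' (U.map f) (hU.dvd (Subgroup.card_map_dvd ..))
    obtain ⟨g, rfl⟩ := hsurj y
    refine ⟨g, fun x hx => ?_⟩
    rw [Coprime.mem_conj_smul_iff, inv_inv] at hx
    have := hy (Subgroup.mem_map_of_mem f hx)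
    rw [Coprime.mem_conj_smul_iff] at this
    rw [hL, Subgroup.mem_comap]
    simpa [mul_assoc] using this
  rcases hfacM with hπ | hπ'
  · refine ⟨L, ⟨fun q hq hd => ?_, fun q hq hqπ => by rw [hLindex]; exact hK'.2 q hq hqπ⟩, fun U hU => ?_⟩
    · rw [hLcard] at hd
      rcases hq.dvd_mul.mp hd with h | h
      · exact hπ q hq h
      · exact hK'.1 q hq h
    · obtain ⟨g, hg⟩ := hUL U hU
      refine ⟨g, fun x hx => ?_⟩
      rw [Coprime.mem_conj_smul_iff]
      refine hg ?_
      rw [Coprime.mem_conj_smul_iff]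
      simpa [mul_assoc] using hx
  · have hco : (Nat.card K').Coprime (Nat.card M) := IsPiNum.coprime (π := π) hK'.1 hπ'
    have hinf : M ⊓ L = M := inf_eq_left.mpr hML
    have hrel : M.relIndex L = Nat.card K' := by
      have h := Subgroup.card_mul_index (M.subgroupOf L)
      rw [Nat.card_congr (Subgroup.subgroupOfEquivOfLe hML).toEquiv, hLcard] at h
      exact Nat.eq_of_mul_eq_mul_left Nat.card_pos h
    obtain ⟨B, hBL, hBsup, hBinf, hBcard⟩ :=
      Coprime.exists_complement_of_coprime (N := M) (S := L) Subgroup.le_normalizer_of_normal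
        (by rw [hinf, hrel]; exact hco.symm)
    rw [hinf] at hBsup hBinf
    rw [hrel] at hBcard
    refine ⟨B, ⟨fun q hq hd => hK'.1 q hq (hBcard ▸ hd), fun q hq hqπ hd => ?_⟩, fun U hU => ?_⟩
    · have h1 : B.index = Nat.card M * K'.index := by
        rw [← hLindex, ← Subgroup.relIndex_mul_index hBL]
        congr 1
        have h := Subgroup.card_mul_index (B.subgroupOf L)
        rw [Nat.card_congr (Subgroup.subgroupOfEquivOfLe hBL).toEquiv, hLcard, hBcard] at h
        exact Nat.eq_of_mul_eq_mul_left (Nat.card_pos (α := K')) (by rw [← mul_comm (Nat.card M)]; exact h)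
      rw [h1] at hd
      rcases hq.dvd_mul.mp hd with h | h
      · exact hπ' q hq h hqπ
      · exact hK'.2 q hq hqπ h
    · obtain ⟨g, hg⟩ := hUL U hU
      set V := MulAut.conj g⁻¹ • U with hV
      have hVc : (Nat.card M).Coprime (Nat.card V) := by
        rw [hV, Coprime.card_conj_smul]
        exact (IsPiNum.coprime hU hπ').symm
      have hBc : (Nat.card M).Coprime (Nat.card B) := by rw [hBcard]; exact hco.symm
      obtain ⟨x, hxV⟩ : ∃ x : G, V ≤ MulAut.conj x • B := by
        rcases Nat.even_or_odd (Nat.card M) with hm | hm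
        · have hVs : Group.IsSolvable V := by
            refine hFT V (Nat.not_even_iff_odd.mp fun hb => ?_)
            exact Nat.not_coprime_of_dvd_of_dvd one_lt_two hm.two_dvd hb.two_dvd hVc
          have hB₀ : M ⊔ ((M ⊔ V) ⊓ B) = M ⊔ V := by
            refine le_antisymm (sup_le le_sup_left inf_le_left) (sup_le le_sup_left fun k hk => ?_)
            obtain ⟨a, ha, b, hb, rfl⟩ := Subgroup.mem_sup_of_normal_left.mp (hBsup.ge (hg hk))
            refine mul_mem (Subgroup.mem_sup_left ha)
              (Subgroup.mem_sup_right (Subgroup.mem_inf.mpr ⟨?_, hb⟩))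
            simpa using mul_mem (inv_mem (Subgroup.mem_sup_left (T := V) ha))
              (Subgroup.mem_sup_right (S := M) hk)
          obtain ⟨x, -, hxe⟩ := Coprime.exists_conj_of_coprime (N := M) (H := V) (K := (M ⊔ V) ⊓ B)
            Subgroup.le_normalizer_of_normal hVc
            (hBc.coprime_dvd_right (Subgroup.card_dvd_of_le inf_le_right)) hB₀.symm (Or.inr hVs)
          refine ⟨x⁻¹, fun v hv => ?_⟩
          rw [Coprime.mem_conj_smul_iff, inv_inv]
          exact ((hxe ▸ Coprime.conj_mem_conj_smul hv : x * v * x⁻¹ ∈ (M ⊔ V) ⊓ B)).2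
        · obtain ⟨x, -, hx⟩ := Hall.exists_conj_le_of_complement (hFT M hm) hBc hVc (hg.trans hBsup.ge)
          exact ⟨x, hx⟩
      refine ⟨g * x, fun u hu => ?_⟩
      have h1 : g⁻¹ * u * g ∈ V := by
        rw [hV, Coprime.mem_conj_smul_iff]; simpa [mul_assoc] using hu
      have h2 := hxV h1
      rw [Coprime.mem_conj_smul_iff] at h2 ⊢
      simpa [mul_assoc] using h2

end CfsgLib.OddConseq
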