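import Cfsg.Agent.Lib.OddConseq.PiSeparable
import Cfsg.Prelude.Def_HallClasses

/-!
# Extensions of C_π-groups are C_π-groups

P. Hall's extension theorem.  If `H₀` is a Hall π-subgroup of the normal subgroup `A`, its
normalizer `N` supplements `A`, and the part of `N` over a Hall π-subgroup of `G/A` is
π-separable.
-/

set_option autoImplicit false

open Pointwise

namespace CfsgLib.OddConseq

universe u

section

variable {G : Type u} [Group G] [Finite G] {π : Set ℕ}

/-- A π-group modulo a π'-group modulo a π-group is π-separable. -/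
theorem separable_of_three {H₁ H₂ : Subgroup G} (h₁ : H₁.Normal) (h₂ : H₂.Normal) (h12 : H₁ ≤ H₂)
    (hc₁ : ∀ q : ℕ, q.Prime → q ∣ Nat.card H₁ → q ∈ π)
    (hc₂ : ∀ q : ℕ, q.Prime → q ∣ H₁.relIndex H₂ → q ∉ π)
    (hc₃ : ∀ q : ℕ, q.Prime → q ∣ H₂.index → q ∈ π) : Separable π G := by
  refine ⟨3, ![⊥, H₁, H₂, ⊤], rfl, rfl, ?_, ?_, ?_⟩
  · refine Fin.monotone_iff_le_succ.mpr fun i => ?_
    fin_cases i
    · exact bot_le
    · exact h12
    · exact le_top
  · intro i
    fin_cases i
    · exact Subgroup.normal_of_characteristic ⊥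
    · exact h₁
    · exact h₂
    · exact Subgroup.normal_of_characteristic ⊤
  · intro i
    fin_cases i
    · exact Or.inl fun q hq hd => hc₁ q hq (by simpa using hd)
    · exact Or.inr fun q hq hd => hc₂ q hq hd
    · exact Or.inl fun q hq hd => hc₃ q hq (by simpa using hd)

/-- A Hall subgroup meets a normal subgroup in a Hall subgroup. -/
theorem piHall_inf_normal {H : Subgroup G} (hH : Cfsg.IsPiHall π H) (A : Subgroup G) [A.Normal] :
    Cfsg.IsPiHall π ((H ⊓ A).subgroupOf A) := by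
  refine ⟨fun q hq hd => hH.1 q hq (hd.trans ?_), fun q hq hqπ hd => hH.2 q hq hqπ (hd.trans ?_)⟩
  · rw [Nat.card_congr (Subgroup.subgroupOfEquivOfLe inf_le_right).toEquiv]
    exact Subgroup.card_dvd_of_le inf_le_left
  · have e1 : Nat.card (H ⊔ A : Subgroup G) = Nat.card A * A.relIndex H := by
      have h := Subgroup.card_mul_index (A.subgroupOf (H ⊔ A))
      rw [Nat.card_congr (Subgroup.subgroupOfEquivOfLe le_sup_right).toEquiv] at h
      rw [← h]
      congr 1
      show A.relIndex (H ⊔ A) = A.relIndex H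
      rw [sup_comm, Subgroup.relIndex_sup_left]
    have e2 : Nat.card (H ⊓ A : Subgroup G) * A.relIndex H = Nat.card H := by
      have h := Subgroup.card_mul_index ((H ⊓ A).subgroupOf H)
      rw [Nat.card_congr (Subgroup.subgroupOfEquivOfLe inf_le_left).toEquiv] at h
      rw [← h]
      congr 1
      exact (Subgroup.inf_relIndex_left H A).symm
    have e3 : Nat.card (H ⊓ A : Subgroup G) * (H ⊓ A).relIndex A = Nat.card A := by
      have h := Subgroup.card_mul_index ((H ⊓ A).subgroupOf A)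
      rw [Nat.card_congr (Subgroup.subgroupOfEquivOfLe inf_le_right).toEquiv] at h
      exact h
    refine ⟨(H ⊔ A).index, Nat.eq_of_mul_eq_mul_left (Nat.card_pos (α := H)) ?_⟩
    rw [H.card_mul_index, ← (H ⊔ A).card_mul_index, e1, ← e3, ← e2]
    show _ = _ * ((H ⊓ A).relIndex A * _)
    ring

/-- Frattini argument. -/
theorem exists_normalizer_mul {A H₀ : Subgroup G} [A.Normal] (hA : Cfsg.IsCPiGroup π A)
    (hle : H₀ ≤ A) (hH₀ : Cfsg.IsPiHall π (H₀.subgroupOf A)) (g : G) :
    ∃ a ∈ A, a⁻¹ * g ∈ Subgroup.normalizer (H₀ : Set G) := by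
  set H₁ := MulAut.conj g • H₀ with hH₁def
  have hle₁ : H₁ ≤ A := fun x hx => by
    rw [hH₁def, Coprime.mem_conj_smul_iff] at hx
    simpa [mul_assoc] using Subgroup.Normal.conj_mem inferInstance _ (hle hx) g
  have hc : Nat.card (H₁.subgroupOf A) = Nat.card (H₀.subgroupOf A) := by
    rw [Nat.card_congr (Subgroup.subgroupOfEquivOfLe hle₁).toEquiv,
      Nat.card_congr (Subgroup.subgroupOfEquivOfLe hle).toEquiv, hH₁def, Coprime.card_conj_smul]
  have hi : (H₁.subgroupOf A).index = (H₀.subgroupOf A).index := by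
    refine Nat.eq_of_mul_eq_mul_left (Nat.card_pos (α := H₀.subgroupOf A)) ?_
    conv_lhs => rw [← hc, Subgroup.card_mul_index]
    rw [Subgroup.card_mul_index]
  obtain ⟨a, ha⟩ := hA.2 _ _ hH₀ (⟨fun q hq hd => hH₀.1 q hq (hc ▸ hd),
    fun q hq hqπ hd => hH₀.2 q hq hqπ (hi ▸ hd)⟩ : Cfsg.IsPiHall π (H₁.subgroupOf A))
  refine ⟨a, a.2, Coprime.mem_normalizer_iff_conj_smul.mpr ?_⟩
  have e : MulAut.conj (a : G) • H₀ = H₁ := by
    have h1 := congrArg (Subgroup.map A.subtype) ha
    rw [Subgroup.map_subgroupOf_eq_of_le hle₁, ← Coprime.conj_smul_eq_map,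
      Coprime.map_conj_smul, Subgroup.map_subgroupOf_eq_of_le hle] at h1
    exact h1.symm
  rw [map_mul, mul_smul, ← hH₁def, ← e, smul_smul, ← map_mul, inv_mul_cancel, map_one, one_smul]

/-- The subgroup of `N(H₀)` lying over a Hall subgroup of `G/A`. -/
theorem exists_separable_part {A H₀ : Subgroup G} [A.Normal] (hA : Cfsg.IsCPiGroup π A)
    (hle : H₀ ≤ A) (hH₀ : Cfsg.IsPiHall π (H₀.subgroupOf A)) {K' : Subgroup (G ⧸ A)}
    (hK' : Cfsg.IsPiHall π K') :
    let L := K'.comap (QuotientGroup.mk' A) ⊓ Subgroup.normalizer (H₀ : Set G)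
    Separable π L ∧ (∀ q : ℕ, q.Prime → q ∈ π → ¬ q ∣ L.index) := by
  intro L
  have hH₀L : H₀ ≤ L := fun x hx => ⟨by
    show QuotientGroup.mk' A x ∈ K'
    rw [QuotientGroup.mk'_apply, (QuotientGroup.eq_one_iff x).mpr (hle hx)]
    exact one_mem _, Subgroup.le_normalizer hx⟩
  have hn1 : (H₀.subgroupOf L).Normal :=
    Subgroup.normal_subgroupOf_of_le_normalizer inf_le_right
  have hn2 : (A.subgroupOf L).Normal := Subgroup.normal_subgroupOf
  have hc1 : ∀ q : ℕ, q.Prime → q ∣ Nat.card (H₀.subgroupOf L) → q ∈ π := by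
    intro q hq hd
    refine hH₀.1 q hq ?_
    rwa [Nat.card_congr (Subgroup.subgroupOfEquivOfLe hle).toEquiv,
      ← Nat.card_congr (Subgroup.subgroupOfEquivOfLe hH₀L).toEquiv]
  have hsub : H₀.subgroupOf L ≤ A.subgroupOf L := fun x hx => hle hx
  -- `L` maps onto `K'`
  have hmap : L.map (QuotientGroup.mk' A) = K' := by
    refine le_antisymm ?_ fun y hy => ?_
    · rintro _ ⟨x, hx, rfl⟩
      exact hx.1
    · obtain ⟨g, rfl⟩ := QuotientGroup.mk'_surjective A y
      obtain ⟨a, ha, hag⟩ := exists_normalizer_mul hA hle hH₀ g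
      have he : QuotientGroup.mk' A (a⁻¹ * g) = QuotientGroup.mk' A g := by
        rw [map_mul, map_inv, QuotientGroup.mk'_apply, QuotientGroup.mk'_apply,
          (QuotientGroup.eq_one_iff a).mpr ha, inv_one, one_mul]
      exact ⟨a⁻¹ * g, ⟨by show _ ∈ K'; rw [he]; exact hy, hag⟩, he⟩
  have hidx : (A.subgroupOf L).index = Nat.card K' := by
    have h := Subgroup.index_ker ((QuotientGroup.mk' A).comp L.subtype)
    rw [← MonoidHom.comap_ker, QuotientGroup.ker_mk', MonoidHom.range_comp, Subgroup.range_subtype,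
      hmap] at h
    exact h
  have hc2 : ∀ q : ℕ, q.Prime → q ∣ (H₀.subgroupOf L).relIndex (A.subgroupOf L) → q ∉ π := by
    intro q hq hd hqπ
    refine hH₀.2 q hq hqπ (hd.trans ?_)
    have h := Subgroup.card_mul_index (((H₀.subgroupOf L)).subgroupOf (A.subgroupOf L))
    rw [Nat.card_congr (Subgroup.subgroupOfEquivOfLe hsub).toEquiv,
      Nat.card_congr (Subgroup.subgroupOfEquivOfLe hH₀L).toEquiv] at h
    have h2 := Subgroup.card_mul_index (H₀.subgroupOf A)
    rw [Nat.card_congr (Subgroup.subgroupOfEquivOfLe hle).toEquiv] at h2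
    have h3 : Nat.card (A.subgroupOf L) ∣ Nat.card A := by
      rw [← Subgroup.inf_subgroupOf_right, Nat.card_congr (Subgroup.subgroupOfEquivOfLe inf_le_right).toEquiv]
      exact Subgroup.card_dvd_of_le inf_le_left
    rw [← h, ← h2] at h3
    exact Nat.dvd_of_mul_dvd_mul_left Nat.card_pos h3
  refine ⟨separable_of_three hn1 hn2 hsub hc1 hc2 fun q hq hd => hK'.1 q hq (hidx ▸ hd), ?_⟩
  intro q hq hqπ hd
  -- `[G : L]` is the index of `K'` times a divisor of `[A : H₀]`
  have h1 := L.card_mul_index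
  have h2 := Subgroup.card_mul_index (A.subgroupOf L)
  rw [hidx] at h2
  have h3 := K'.card_mul_index
  have h4 : Nat.card G = Nat.card (G ⧸ A) * Nat.card A :=
    Subgroup.card_eq_card_quotient_mul_card_subgroup A
  have h5 : Nat.card (H₀.subgroupOf L) ∣ Nat.card (A.subgroupOf L) := Subgroup.card_dvd_of_le hsub
  rw [Nat.card_congr (Subgroup.subgroupOfEquivOfLe hH₀L).toEquiv] at h5
  obtain ⟨d, hd'⟩ := h5
  have h6 := Subgroup.card_mul_index (H₀.subgroupOf A)
  rw [Nat.card_congr (Subgroup.subgroupOfEquivOfLe hle).toEquiv] at h6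
  have key : d * L.index = K'.index * (H₀.subgroupOf A).index := by
    refine Nat.eq_of_mul_eq_mul_left (Nat.card_pos (α := H₀)) (Nat.eq_of_mul_eq_mul_left
      (Nat.card_pos (α := K')) ?_)
    calc Nat.card K' * (Nat.card H₀ * (d * L.index))
        = Nat.card H₀ * d * Nat.card K' * L.index := by ring
      _ = Nat.card G := by rw [← hd', h2, h1]
      _ = Nat.card K' * K'.index * (Nat.card H₀ * (H₀.subgroupOf A).index) := by rw [h3, h6, h4]
      _ = _ := by ring
  rcases hq.dvd_mul.mp (key ▸ hd.mul_left d) with h | h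
  · exact hK'.2 q hq hqπ h
  · exact hH₀.2 q hq hqπ h

theorem piHall_map {A H : Subgroup G} [A.Normal] (hH : Cfsg.IsPiHall π H) :
    Cfsg.IsPiHall π (H.map (QuotientGroup.mk' A)) :=
  ⟨fun q hq hd => hH.1 q hq (hd.trans (Subgroup.card_map_dvd ..)),
    fun q hq hqπ hd => hH.2 q hq hqπ
      (hd.trans (Subgroup.index_map_dvd H (QuotientGroup.mk'_surjective A)))⟩

theorem piHall_conj {H : Subgroup G} (hH : Cfsg.IsPiHall π H) (g : G) :
    Cfsg.IsPiHall π (MulAut.conj g • H) := by
  refine ⟨fun q hq hd => hH.1 q hq (by rwa [Coprime.card_conj_smul] at hd), fun q hq hqπ hd => ?_⟩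
  rw [Coprime.conj_smul_eq_map,
    Subgroup.index_map_of_bijective (MulEquiv.bijective (MulAut.conj g))] at hd
  exact hH.2 q hq hqπ hd

/-- Hall's extension theorem for C_π. -/
theorem cpi_extension (hFT : OddSolvable.{u}) (A : Subgroup G) [A.Normal]
    (hA : Cfsg.IsCPiGroup π A) (hQ : Cfsg.IsCPiGroup π (G ⧸ A)) : Cfsg.IsCPiGroup π G := by
  constructor
  · obtain ⟨H₀', hH₀'⟩ := hA.1
    set H₀ := H₀'.map A.subtype
    have hle : H₀ ≤ A := Subgroup.map_subtype_le _
    have hH₀ : Cfsg.IsPiHall π (H₀.subgroupOf A) := by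
      rw [show H₀.subgroupOf A = H₀' from
        Subgroup.comap_map_eq_self_of_injective A.subtype_injective H₀']
      exact hH₀'
    obtain ⟨K', hK'⟩ := hQ.1
    obtain ⟨hsep, hidx⟩ := exists_separable_part hA hle hH₀ hK'
    set L := K'.comap (QuotientGroup.mk' A) ⊓ Subgroup.normalizer (H₀ : Set G)
    obtain ⟨K, hK⟩ := (separable_dpi hFT π hsep).1
    refine ⟨K.map L.subtype, fun q hq hd => hK.1 q hq ?_, fun q hq hqπ hd => ?_⟩
    · rwa [Nat.card_congr (K.equivMapOfInjective L.subtype L.subtype_injective).toEquiv]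
    · rw [Subgroup.index_map_subtype] at hd
      rcases hq.dvd_mul.mp hd with h | h
      · exact hK.2 q hq hqπ h
      · exact hidx q hq hqπ h
  · intro H K hH hK
    set H₀ := H ⊓ A with hH₀def
    have hH₀ := piHall_inf_normal hH A
    -- move `K` so that its image and its trace on `A` agree with those of `H`
    obtain ⟨b, hb⟩ := hA.2 _ _ (piHall_inf_normal hK A) hH₀
    set K₁ := MulAut.conj (b : G) • K with hK₁
    have hK₁A : K₁ ⊓ A = H₀ := by
      have h1 := congrArg (Subgroup.map A.subtype) hb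
      rw [Subgroup.map_subgroupOf_eq_of_le inf_le_right, ← Coprime.conj_smul_eq_map,
        Coprime.map_conj_smul, Subgroup.map_subgroupOf_eq_of_le inf_le_right,
        Subgroup.smul_inf] at h1
      rw [hH₀def, h1, Subgroup.subtype_apply, Coprime.conj_smul_eq_self_of_mem_normalizer
        (Subgroup.le_normalizer b.2)]
    obtain ⟨y, hy⟩ := hQ.2 _ _ (piHall_map (A := A) (piHall_conj hK b)) (piHall_map (A := A) hH)
    obtain ⟨g, rfl⟩ := QuotientGroup.mk'_surjective A y
    obtain ⟨a, ha, hn⟩ := exists_normalizer_mul hA inf_le_right hH₀ g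
    set m := a⁻¹ * g with hm
    set K₂ := MulAut.conj m • K₁ with hK₂
    have hK₂A : K₂ ⊓ A = H₀ := by
      have h2 : MulAut.conj m • A = A :=
        Coprime.conj_smul_eq_self_of_mem_normalizer (Subgroup.normalizer_eq_top A ▸ Subgroup.mem_top m)
      rw [hK₂, ← h2, ← Subgroup.smul_inf, hK₁A]
      exact Coprime.conj_smul_eq_self_of_mem_normalizer hn
    have hK₂map : K₂.map (QuotientGroup.mk' A) = H.map (QuotientGroup.mk' A) := by
      rw [hK₂, Coprime.map_conj_smul, hy, ← Coprime.conj_smul_eq_map]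
      congr 2
      rw [hm, map_mul, map_inv, QuotientGroup.mk'_apply, QuotientGroup.mk'_apply,
        (QuotientGroup.eq_one_iff a).mpr ha, inv_one, one_mul]
    obtain ⟨hsep, -⟩ := exists_separable_part hA inf_le_right hH₀ (piHall_map (A := A) hH)
    set L := (H.map (QuotientGroup.mk' A)).comap (QuotientGroup.mk' A) ⊓
      Subgroup.normalizer (H₀ : Set G)
    have hin : ∀ X : Subgroup G, X ⊓ A = H₀ →
        X.map (QuotientGroup.mk' A) = H.map (QuotientGroup.mk' A) → X ≤ L := fun X hXA hXm x hx =>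
      ⟨by show _ ∈ H.map _; rw [← hXm]; exact Subgroup.mem_map_of_mem _ hx,
        hXA ▸ Coprime.le_normalizer_inf Subgroup.le_normalizer_of_normal hx⟩
    have hHall : ∀ X : Subgroup G, Cfsg.IsPiHall π X → X ≤ L →
        Cfsg.IsPiHall π (X.subgroupOf L) := fun X hX hXL => ⟨fun q hq hd => hX.1 q hq
      (by rwa [← Nat.card_congr (Subgroup.subgroupOfEquivOfLe hXL).toEquiv]),
      fun q hq hqπ hd => hX.2 q hq hqπ (hd.trans (Subgroup.relIndex_dvd_index_of_le hXL))⟩
    have hHL : H ≤ L := hin H rfl rfl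
    have hKL : K₂ ≤ L := hin K₂ hK₂A hK₂map
    obtain ⟨l, hl⟩ := (separable_dpi hFT π hsep).2.1 _ _
      (hHall H hH hHL) (hHall K₂ (piHall_conj (piHall_conj hK b) m) hKL)
    have h1 := congrArg (Subgroup.map L.subtype) hl
    rw [Subgroup.map_subgroupOf_eq_of_le hKL, ← Coprime.conj_smul_eq_map, Coprime.map_conj_smul,
      Subgroup.map_subgroupOf_eq_of_le hHL] at h1
    refine ⟨(b : G)⁻¹ * m⁻¹ * (l : G), ?_⟩
    rw [← Coprime.conj_smul_eq_map]
    have h2 : MulAut.conj (m * (b : G)) • K = MulAut.conj (l : G) • H := by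
      rw [map_mul, mul_smul]; exact h1
    rw [show (b : G)⁻¹ * m⁻¹ * (l : G) = (m * (b : G))⁻¹ * (l : G) by group, map_mul, mul_smul, ← h2,
      smul_smul, ← map_mul, inv_mul_cancel, map_one, one_smul]

end

end CfsgLib.OddConseq
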