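import Mathlib
import Cfsg.Agent.Lib.OddConseq.Basic
import Cfsg.Agent.Lib.Coprime.Action
import Cfsg.Agent.Lib.ZJ.Complement
import Cfsg.Agent.Lib.PSolvable.Core
import Cfsg.Agent.Lib.Splitting.Nilpotent

/-!
# Coprime action with all proper invariant subgroups nilpotent

If `A` acts coprimely on `K` and every proper `A`-invariant subgroup of `K` is nilpotent, then `K`
is solvable, and it is nilpotent or has order `p^a q^b` with a normal invariant Sylow subgroup.
Apart from coprime conjugacy the proof only needs the Glauberman–Thompson complement theorem.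
-/

set_option autoImplicit false
set_option linter.style.haveILetI false

namespace CfsgLib.OddConseq

open CfsgLib

universe u v

/-- Every proper `A`-invariant subgroup of `K` is nilpotent. -/
def InvNilpotent {Γ : Type u} [Group Γ] (A K : Subgroup Γ) : Prop :=
  ∀ H : Subgroup Γ, H < K → A ≤ Subgroup.normalizer (H : Set Γ) → Group.IsNilpotent ↥H

/-- A proper invariant normal subgroup with quotient a prime power group gives solvability. -/
theorem solvable_of_residual {Γ : Type u} [Group Γ] [Finite Γ] {A K : Subgroup Γ}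
    (hAK : A ≤ Subgroup.normalizer (K : Set Γ)) (h : InvNilpotent A K) {p : ℕ} [Fact p.Prime]
    (hne : Cfsg.pResidual p ↥K ≠ ⊤) : Group.IsSolvable ↥K := by
  haveI := Transfer.pResidual_normal p ↥K
  set M := Cfsg.pResidual p ↥K with hM
  haveI : M.Characteristic := Subgroup.characteristic_iff_map_eq.mpr fun φ =>
    Transfer.map_pResidual φ.toMonoidHom φ.surjective
  have hlt : M.map K.subtype < K := lt_of_le_of_ne (Subgroup.map_subtype_le _) fun e =>
    hne (Subgroup.map_injective K.subtype_injective
      (e.trans (by rw [← MonoidHom.range_eq_map, Subgroup.range_subtype])))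
  haveI : Group.IsNilpotent ↥(M.map K.subtype) :=
    h _ hlt (PSolvable.le_normalizer_map_of_characteristic hAK M)
  haveI : Group.IsNilpotent ↥M :=
    Group.nilpotent_of_mulEquiv (M.equivMapOfInjective _ K.subtype_injective).symm
  haveI : Group.IsNilpotent (↥K ⧸ M) := Transfer.isPGroup_quotient_pResidual.isNilpotent
  exact Group.isSolvable_of_ker_le_range M.subtype (QuotientGroup.mk' M) (by simp)

theorem solvable_of_invNilpotent (hFT : OddSolvable.{u}) : ∀ (n : ℕ) (Γ : Type u) [Group Γ]
    [Finite Γ] (A K : Subgroup Γ), Nat.card ↥K = n → K.Normal → K ⊔ A = ⊤ →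
    (Nat.card A).Coprime (Nat.card K) → InvNilpotent A K → Group.IsSolvable ↥K := by
  intro n
  induction n using Nat.strong_induction_on with
  | _ n ih =>
  intro Γ _ _ A K hn hKn hKA hcop h
  haveI := hKn
  have hAK : A ≤ Subgroup.normalizer (K : Set Γ) := Subgroup.le_normalizer_of_normal
  by_cases h2 : IsPGroup 2 ↥K
  · haveI : Fact (Nat.Prime 2) := ⟨Nat.prime_two⟩
    haveI := h2.isNilpotent
    infer_instance
  obtain ⟨p, hp, hpd, hp2⟩ : ∃ p, p.Prime ∧ p ∣ Nat.card ↥K ∧ p ≠ 2 := by
    by_contra! hc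
    refine h2 (IsPGroup.of_card (n := (Nat.card ↥K).factorization 2) ?_)
    refine (Nat.prod_factorization_pow_eq_self Nat.card_pos.ne').symm.trans ?_
    rw [Finsupp.prod, Finset.prod_eq_single 2]
    · intro q hq hq2
      rw [Nat.support_factorization] at hq
      exact absurd (hc q (Nat.prime_of_mem_primeFactors hq) (Nat.dvd_of_mem_primeFactors hq)) hq2
    · intro h0
      rw [Finsupp.notMem_support_iff.mp h0, pow_zero]
  haveI : Fact p.Prime := ⟨hp⟩
  obtain ⟨P, hPA⟩ := Coprime.exists_invariant_sylow hAK hcop (hFT.or_of_coprime hcop) p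
  set Pi := (P : Subgroup K).map K.subtype with hPi
  have hPip : IsPGroup p Pi := P.2.map _
  have hF := ZJ.isZJFunctor_zJ.{u} (p := p) hp2 (Or.inl rfl)
  set U := ZJ.zJ 0 Pi with hU
  have hUK : U ≤ K := (ZJ.zJ_le 0 Pi).trans (Subgroup.map_subtype_le _)
  have hUA : A ≤ Subgroup.normalizer (U : Set Γ) := hPA.trans (hF.normalizer_le hPip)
  by_cases hUn : K ≤ Subgroup.normalizer (U : Set Γ)
  · haveI hUnormal : U.Normal := by
      rw [← Subgroup.normalizer_eq_top_iff, eq_top_iff, ← hKA]
      exact sup_le hUn hUA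
    have hU1 : U ≠ ⊥ := hF.ne_bot Pi hPip fun e => P.ne_bot_of_dvd_card hpd
      ((Subgroup.map_eq_bot_iff_of_injective _ K.subtype_injective).mp e)
    set π := QuotientGroup.mk' U with hπ
    have hlt : Nat.card ↥(K.map π) < n := by
      have h1 := Subgroup.card_mul_index (U.subgroupOf K)
      have h3 : U.relIndex K = Nat.card ↥(K.map π) := by
        rw [← Subgroup.relIndex_ker, hπ, QuotientGroup.ker_mk']
      rw [Nat.card_congr (Subgroup.subgroupOfEquivOfLe hUK).toEquiv, show (U.subgroupOf K).index =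
        Nat.card ↥(K.map π) from h3, hn] at h1
      rw [← h1]
      exact lt_mul_of_one_lt_left Nat.card_pos ((Subgroup.one_lt_card_iff_ne_bot U).mpr hU1)
    have hq : InvNilpotent (A.map π) (K.map π) := by
      intro H hH hHA
      have hle : U ≤ H.comap π := by
        intro x hx
        rw [Subgroup.mem_comap, hπ, QuotientGroup.mk'_apply, (QuotientGroup.eq_one_iff x).mpr hx]
        exact one_mem H
      have hpre : H.comap π < K := by
        refine lt_of_le_of_ne (fun x hx => ?_) fun e => hH.ne ?_
        · obtain ⟨k, hk, hkx⟩ := hH.le (Subgroup.mem_comap.mp hx)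
          have h4 : k⁻¹ * x ∈ U := QuotientGroup.eq.mp hkx
          have := mul_mem hk (hUK h4)
          rwa [mul_inv_cancel_left] at this
        · rw [← e, Subgroup.map_comap_eq_self_of_surjective (QuotientGroup.mk'_surjective U)]
      haveI : Group.IsNilpotent ↥(H.comap π) := h _ hpre (by
        intro a ha
        have h5 := hHA (Subgroup.mem_map_of_mem π ha)
        rw [← Subgroup.comap_normalizer_eq_of_surjective H (QuotientGroup.mk'_surjective U)]
        exact h5)
      exact Group.nilpotent_of_surjective (π.subgroupComap H)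
        (π.subgroupComap_surjective_of_surjective H (QuotientGroup.mk'_surjective U))
    haveI : Group.IsSolvable ↥(K.map π) := ih _ hlt (Γ ⧸ U) (A.map π) (K.map π) rfl
      (hKn.map π (QuotientGroup.mk'_surjective U))
      (by rw [← Subgroup.map_sup, hKA, Subgroup.map_top_of_surjective _ (QuotientGroup.mk'_surjective U)])
      (Nat.Coprime.coprime_dvd_left (Subgroup.card_map_dvd A π)
        (hcop.coprime_dvd_right (Subgroup.card_map_dvd K π))) hq
    haveI : Group.IsNilpotent ↥U := (hPip.to_le (ZJ.zJ_le 0 Pi)).isNilpotent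
    exact Group.isSolvable_of_ker_le_range (Subgroup.inclusion hUK) (π.subgroupMap K) fun x hx =>
      ⟨⟨x, (QuotientGroup.eq_one_iff (x : Γ)).mp (congrArg Subtype.val (MonoidHom.mem_ker.mp hx) :)⟩,
        rfl⟩
  · have hNK : K ⊓ Subgroup.normalizer (U : Set Γ) < K :=
      lt_of_le_of_ne inf_le_left fun e => hUn (inf_eq_left.mp e)
    haveI : Group.IsNilpotent ↥(K ⊓ Subgroup.normalizer (U : Set Γ)) := h _ hNK
      (Coprime.le_normalizer_inf_of_le hAK (hUA.trans Subgroup.le_normalizer))
    have hUmap : (ZJ.zJ 0 (P : Subgroup K)).map K.subtype = U :=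
      ZJ.map_zJ 0 K.subtype K.subtype_injective.injOn
    have hnil : Group.IsNilpotent ↥(Subgroup.normalizer (ZJ.zJ 0 (P : Subgroup K) : Set K)) := by
      have hle : (Subgroup.normalizer (ZJ.zJ 0 (P : Subgroup K) : Set K)).map K.subtype ≤
          K ⊓ Subgroup.normalizer (U : Set Γ) :=
        le_inf (Subgroup.map_subtype_le _) ((Subgroup.le_normalizer_map _).trans (by rw [hUmap]))
      have hi : Function.Injective ((Subgroup.inclusion hle).comp (K.subtype.subgroupMap
          (Subgroup.normalizer (ZJ.zJ 0 (P : Subgroup K) : Set K)))) :=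
        fun a b hab => Subtype.ext (K.subtype_injective (congrArg Subtype.val hab :))
      exact Group.nilpotent_of_mulEquiv (MonoidHom.ofInjective hi).symm
    have hnpc : Cfsg.HasNormalPComplement p ↥K :=
      ZJ.hasNormalPComplement_of_functor hF hp2 (Or.inl rfl) P
        (Splitting.hasNPC_of_isNilpotent hnil p)
    refine solvable_of_residual hAK h (p := p) fun e => ?_
    have hcore := Transfer.pPrimeCore_eq_pResidual hnpc
    have hd := Transfer.not_dvd_card_pPrimeCore (G := ↥K) (p := p)
    rw [hcore, e, Subgroup.card_top] at hd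
    exact hd hpd

/-- A non-nilpotent solvable `K` has an invariant normal Sylow subgroup and order `p^a q^b`. -/
theorem structure_of_invNilpotent {Γ : Type u} [Group Γ] [Finite Γ] {A K : Subgroup Γ}
    (hAK : A ≤ Subgroup.normalizer (K : Set Γ)) (hcop : (Nat.card A).Coprime (Nat.card K))
    (hsolv : Group.IsSolvable ↥K) (h : InvNilpotent A K) (hnn : ¬ Group.IsNilpotent ↥K) :
    (∃ p q a b : ℕ, p.Prime ∧ q.Prime ∧ p ≠ q ∧ Nat.card ↥K = p ^ a * q ^ b) ∧
      ∃ (p : ℕ) (P : Sylow p K), p.Prime ∧ p ∣ Nat.card ↥K ∧ (P : Subgroup K).Normal ∧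
        A ≤ Subgroup.normalizer ((P : Subgroup K).map K.subtype : Set Γ) := by
  haveI := hsolv
  haveI : Nontrivial ↥K := by
    by_contra hn
    rw [not_nontrivial_iff_subsingleton] at hn
    exact hnn inferInstance
  have hlt := Group.IsSolvable.commutator_lt_top_of_nontrivial (G := ↥K)
  obtain ⟨q, hq, hqd⟩ := Nat.exists_prime_and_dvd
    (fun e => hlt.ne (Subgroup.index_eq_one.mp e) : (commutator ↥K).index ≠ 1)
  haveI : Fact q.Prime := ⟨hq⟩
  -- the residual is proper, so its Sylow subgroups are normal in `K`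
  have hne : Cfsg.pResidual q ↥K ≠ ⊤ := by
    intro e
    have h1 : Cfsg.pResidual q (↥K ⧸ commutator ↥K) = ⊤ := by
      rw [← Transfer.map_pResidual (QuotientGroup.mk' _) (QuotientGroup.mk'_surjective _), e,
        Subgroup.map_top_of_surjective _ (QuotientGroup.mk'_surjective _)]
    haveI : Group.IsNilpotent (↥K ⧸ commutator ↥K) :=
      Group.nilpotent_of_mulEquiv (MulEquiv.refl (Abelianization ↥K))
    have hd := Transfer.not_dvd_card_pPrimeCore (G := ↥K ⧸ commutator ↥K) (p := q)
    rw [Transfer.pPrimeCore_eq_pResidual (Splitting.hasNPC_of_isNilpotent inferInstance q), h1,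
      Subgroup.card_top] at hd
    exact hd hqd
  haveI := Transfer.pResidual_normal q ↥K
  set M := Cfsg.pResidual q ↥K with hM
  haveI : M.Characteristic := Subgroup.characteristic_iff_map_eq.mpr fun φ =>
    Transfer.map_pResidual φ.toMonoidHom φ.surjective
  have hMlt : M.map K.subtype < K := lt_of_le_of_ne (Subgroup.map_subtype_le _) fun e =>
    hne (Subgroup.map_injective K.subtype_injective
      (e.trans (by rw [← MonoidHom.range_eq_map, Subgroup.range_subtype])))
  haveI : Group.IsNilpotent ↥(M.map K.subtype) :=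
    h _ hMlt (PSolvable.le_normalizer_map_of_characteristic hAK M)
  have hMnil : Group.IsNilpotent ↥M :=
    Group.nilpotent_of_mulEquiv (M.equivMapOfInjective _ K.subtype_injective).symm
  have hnorm : ∀ r : ℕ, r.Prime → r ≠ q → ∀ R : Sylow r K, (R : Subgroup K).Normal := by
    intro r hr hrq R
    haveI : Fact r.Prime := ⟨hr⟩
    have hRM : (R : Subgroup K) ≤ M := fun x hx => Transfer.mem_pResidual_of_coprime (by
      obtain ⟨k, hk⟩ := IsPGroup.iff_orderOf.mp R.2 ⟨x, hx⟩
      rw [← Subgroup.orderOf_coe] at hk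
      rw [hk]
      exact ((Nat.coprime_primes hr hq).mpr hrq).pow_left k)
    have hn1 := Splitting.sylow_normal_of_isNilpotent hMnil (R.subtype hRM)
    haveI := Sylow.characteristic_of_normal (R.subtype hRM) hn1
    have hn2 := PSolvable.normal_map_of_characteristic M (R.subtype hRM : Subgroup M)
    rwa [Sylow.coe_subtype, Subgroup.map_subgroupOf_eq_of_le hRM] at hn2
  obtain ⟨Q, hQA⟩ := Coprime.exists_invariant_sylow hAK hcop (Or.inr hsolv) q
  have hQn : ¬ (Q : Subgroup K).Normal := fun hQn => hnn <| Splitting.isNilpotent_of_sylow_normal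
    fun r hr R => by
      by_cases hrq : r = q
      · subst hrq
        haveI := Sylow.unique_of_normal Q hQn
        rwa [Subsingleton.elim R Q]
      · exact hnorm r hr hrq R
  -- some Sylow subgroup generates `K` together with `Q`
  obtain ⟨p, hp, hpd, hpq, htop⟩ : ∃ p, p.Prime ∧ p ∣ Nat.card ↥K ∧ p ≠ q ∧
      ∀ P : Sylow p K, (P : Subgroup K) ⊔ Q = ⊤ := by
    by_contra! hc
    refine hQn ?_
    rw [← Subgroup.normalizer_eq_top_iff]
    refine Subgroup.eq_top_of_card_eq _ (Nat.dvd_antisymm (Subgroup.card_subgroup_dvd_card _) ?_)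
    refine (Nat.factorization_le_iff_dvd Nat.card_pos.ne' Nat.card_pos.ne').mp ?_
    intro r
    by_cases hr : r.Prime ∧ r ∣ Nat.card ↥K
    · obtain ⟨hr, hrd⟩ := hr
      haveI : Fact r.Prime := ⟨hr⟩
      rw [← hr.pow_dvd_iff_le_factorization Nat.card_pos.ne']
      by_cases hrq : r = q
      · subst hrq
        rw [← Q.card_eq_multiplicity]
        exact Subgroup.card_dvd_of_le Subgroup.le_normalizer
      · obtain ⟨R, hR⟩ := hc r hr hrd hrq
        haveI := hnorm r hr hrq R
        rw [← R.card_eq_multiplicity]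
        refine Subgroup.card_dvd_of_le ?_
        set H := ((R : Subgroup K) ⊔ Q).map K.subtype with hH
        haveI := Sylow.characteristic_of_normal R inferInstance
        haveI : Group.IsNilpotent ↥H := by
          refine h _ (lt_of_le_of_ne (Subgroup.map_subtype_le _) fun e => hR
            (Subgroup.map_injective K.subtype_injective
              (e.trans (by rw [← MonoidHom.range_eq_map, Subgroup.range_subtype])))) ?_
          rw [hH, Subgroup.map_sup]
          exact Coprime.le_normalizer_sup_of_le (PSolvable.le_normalizer_map_of_characteristic hAK _) hQA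
        have hnil : Group.IsNilpotent ↥((R : Subgroup K) ⊔ Q) :=
          Group.nilpotent_of_mulEquiv (((R : Subgroup K) ⊔ Q).equivMapOfInjective _
            K.subtype_injective).symm
        have hn1 := Splitting.sylow_normal_of_isNilpotent hnil (Q.subtype le_sup_right)
        intro x hx
        exact Subgroup.normal_subgroupOf_iff_le_normalizer le_sup_right |>.mp hn1
          (Subgroup.mem_sup_left hx)
    · rw [Nat.factorization_eq_zero_iff (Nat.card ↥K) r |>.mpr (by tauto)]
      exact Nat.zero_le _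
  haveI : Fact p.Prime := ⟨hp⟩
  let P : Sylow p K := default
  haveI := hnorm p hp hpq P
  haveI := Sylow.characteristic_of_normal P inferInstance
  refine ⟨⟨p, q, (Nat.card ↥K).factorization p, (Nat.card ↥K).factorization q, hp, hq, hpq, ?_⟩,
    p, P, hp, hpd, inferInstance, PSolvable.le_normalizer_map_of_characteristic hAK _⟩
  have hc := Coprime.card_sup_mul_card_inf (K := (P : Subgroup K)) (S := (Q : Subgroup K))
    Subgroup.le_normalizer_of_normal
  rw [htop P, Subgroup.card_top, (Subgroup.disjoint_of_coprime_natCard (by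
      rw [P.card_eq_multiplicity, Q.card_eq_multiplicity]
      exact ((Nat.coprime_primes hp hq).mpr hpq).pow _ _)).eq_bot,
    Subgroup.card_bot, mul_one, P.card_eq_multiplicity, Q.card_eq_multiplicity] at hc
  exact hc

/-- The version for a group of automorphisms. -/
theorem invariant_nilpotent_action (hFT : OddSolvable.{max u v}) {A : Type v} {G : Type u} [Group A] [Group G]
    [Finite A] [Finite G] [MulDistribMulAction A G] (hcop : (Nat.card A).Coprime (Nat.card G))
    (hmax : ∀ H : Subgroup G, H ≠ ⊤ → (∀ a : A, ∀ x ∈ H, a • x ∈ H) →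
      (∀ K : Subgroup G, H < K → (∀ a : A, ∀ x ∈ K, a • x ∈ K) → K = ⊤) → Group.IsNilpotent H)
    (hG : ¬ Group.IsNilpotent G) :
    Group.IsSolvable G ∧
      (∃ p q a b : ℕ, p.Prime ∧ q.Prime ∧ p ≠ q ∧ Nat.card G = p ^ a * q ^ b) ∧
      ∃ (p : ℕ) (P : Sylow p G), p.Prime ∧ p ∣ Nat.card G ∧ (P : Subgroup G).Normal ∧
        (∀ a : A, ∀ x ∈ (P : Subgroup G), a • x ∈ (P : Subgroup G)) := by
  let φ := MulDistribMulAction.toMulAut A G
  let i : G →* G ⋊[φ] A := SemidirectProduct.inl
  let j : A →* G ⋊[φ] A := SemidirectProduct.inr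
  haveI : Finite (G ⋊[φ] A) := Finite.of_equiv _ SemidirectProduct.equivProd.symm
  have hconj : ∀ (a : A) (g : G), j a * i g * (j a)⁻¹ = i (a • g) := fun a g => by
    have h1 := SemidirectProduct.inl_aut (φ := φ) a g
    rw [map_inv] at h1
    exact h1.symm
  have hi : Function.Injective i := SemidirectProduct.inl_injective
  let e : G ≃* i.range := MonoidHom.ofInjective hi
  have hnorm : ∀ H : Subgroup G, (∀ a : A, ∀ x ∈ H, a • x ∈ H) →
      j.range ≤ Subgroup.normalizer (H.map i : Set (G ⋊[φ] A)) := by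
    rintro H hH _ ⟨a, rfl⟩
    refine Subgroup.mem_normalizer_iff.mpr fun y => ⟨?_, fun hy => ?_⟩
    · rintro ⟨x, hx, rfl⟩
      exact ⟨a • x, hH a x hx, (hconj a x).symm⟩
    · obtain ⟨x, hx, hxe⟩ := hy
      refine ⟨a⁻¹ • x, hH _ x hx, ?_⟩
      rw [← hconj, hxe, map_inv]
      group
  have hinv : ∀ H : Subgroup G, j.range ≤ Subgroup.normalizer (H.map i : Set (G ⋊[φ] A)) →
      ∀ a : A, ∀ x ∈ H, a • x ∈ H := by
    intro H hH a x hx
    obtain ⟨y, hy, hye⟩ := (Subgroup.mem_normalizer_iff.mp (hH ⟨a, rfl⟩) (i x)).mp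
      (Subgroup.mem_map_of_mem i hx)
    rw [hconj] at hye
    exact hi hye ▸ hy
  haveI hKn : i.range.Normal := by
    show (SemidirectProduct.inl : G →* G ⋊[φ] A).range.Normal
    rw [SemidirectProduct.range_inl_eq_ker_rightHom]
    infer_instance
  have hKA : i.range ⊔ j.range = ⊤ := by
    rw [eq_top_iff]
    intro x _
    rw [← SemidirectProduct.inl_left_mul_inr_right x]
    exact Subgroup.mul_mem_sup ⟨_, rfl⟩ ⟨_, rfl⟩
  have hcop' : (Nat.card j.range).Coprime (Nat.card i.range) := by
    rwa [← Nat.card_congr (MonoidHom.ofInjective (f := j) SemidirectProduct.inr_injective).toEquiv,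
      ← Nat.card_congr e.toEquiv]
  have hI : InvNilpotent j.range i.range := by
    intro H hH hHA
    obtain ⟨H₀, rfl⟩ : ∃ H₀ : Subgroup G, H₀.map i = H :=
      ⟨H.comap i, Subgroup.map_comap_eq_self hH.le⟩
    have hne : H₀ ≠ ⊤ := fun e => hH.ne (by rw [e, ← MonoidHom.range_eq_map])
    obtain ⟨M, ⟨hle, hM, hMi⟩, hMmax⟩ := (Set.toFinite {M : Subgroup G | H₀ ≤ M ∧ M ≠ ⊤ ∧
      ∀ a : A, ∀ x ∈ M, a • x ∈ M}).exists_maximal ⟨H₀, le_rfl, hne, hinv H₀ hHA⟩
    haveI : Group.IsNilpotent M := hmax M hM hMi fun K hK hKi => by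
      by_contra hKt
      exact hK.not_ge (hMmax ⟨hle.trans hK.le, hKt, hKi⟩ hK.le)
    haveI : Group.IsNilpotent ↥H₀ := Group.nilpotent_of_mulEquiv (Subgroup.subgroupOfEquivOfLe hle)
    exact Group.nilpotent_of_mulEquiv (H₀.equivMapOfInjective i hi)
  have hsol : Group.IsSolvable ↥i.range :=
    solvable_of_invNilpotent hFT _ _ j.range i.range rfl hKn hKA hcop' hI
  have hnn : ¬ Group.IsNilpotent ↥i.range := fun h => hG (Group.nilpotent_of_mulEquiv e.symm)
  obtain ⟨⟨p, q, a, b, hp, hq, hpq, hcard⟩, r, P, hr, hrd, hPn, hPA⟩ :=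
    structure_of_invNilpotent Subgroup.le_normalizer_of_normal hcop' hsol hI hnn
  rw [← Nat.card_congr e.toEquiv] at hcard hrd
  haveI := hsol
  refine ⟨Group.isSolvable_of_isSolvable_injective (f := e.toMonoidHom) e.injective,
    ⟨p, q, a, b, hp, hq, hpq, hcard⟩, r, ?_⟩
  haveI : Fact r.Prime := ⟨hr⟩
  let P₀ := P.mapSurjective (f := e.symm.toMonoidHom) e.symm.surjective
  refine ⟨P₀, hr, hrd, hPn.map _ e.symm.surjective, hinv _ ?_⟩
  have heq : (P₀ : Subgroup G).map i = (P : Subgroup i.range).map i.range.subtype := by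
    show ((P : Subgroup i.range).map e.symm.toMonoidHom).map i = _
    rw [Subgroup.map_map]
    refine congrArg (fun f => (P : Subgroup i.range).map f) ?_
    exact MonoidHom.ext fun x => congrArg Subtype.val (e.apply_symm_apply x)
  rw [heq]
  exact hPA

end CfsgLib.OddConseq
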