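import Cfsg.Agent.Lib.OddConseq.Basic
import Cfsg.Agent.Lib.ZStar.Recognize
import Cfsg.Agent.Lib.ZStar.Basic
import Cfsg.Agent.S0201

/-!
# Non-cyclic simple groups contain a Klein four-group
-/

set_option autoImplicit false

namespace CfsgLib.OddConseq

universe u

theorem klein_four_of_simple (hFT : OddSolvable.{u}) {G : Type u} [Group G] [Finite G]
    [IsSimpleGroup G] (hG : ¬ IsCyclic G) : ∃ E : Subgroup G, IsKleinFour E := by
  classical
  have hns : ¬ Group.IsSolvable G := fun h => hG (by
    have hc : ∀ a b : G, a * b = b * a := IsSimpleGroup.comm_iff_isSolvable.mpr h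
    letI : CommGroup G := { ‹Group G› with mul_comm := hc }
    exact IsSimpleGroup.isCyclic)
  have heven : 2 ∣ Nat.card G := by
    by_contra hodd
    exact hns (hFT G (Nat.odd_iff.mpr (Nat.two_dvd_ne_zero.mp hodd)))
  obtain ⟨S⟩ : Nonempty (Sylow 2 G) := inferInstance
  haveI : Nontrivial (S : Subgroup G) :=
    (Subgroup.nontrivial_iff_ne_bot _).mpr (S.ne_bot_of_dvd_card heven)
  -- a central involution of `S`
  haveI := S.2.center_nontrivial
  obtain ⟨k, hk, hk'⟩ := (IsPGroup.to_subgroup S.2 (Subgroup.center (S : Subgroup G))).nontrivial_iff_card.mp inferInstance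
  obtain ⟨z, hz⟩ := exists_prime_orderOf_dvd_card' (G := Subgroup.center (S : Subgroup G)) 2
    (hk' ▸ dvd_pow_self 2 hk.ne')
  rw [← Subgroup.orderOf_coe] at hz
  by_cases huniq : ∀ x y : (S : Subgroup G), orderOf x = 2 → orderOf y = 2 → x = y
  · exfalso
    have hne : ∀ N : Subgroup G, N.Normal → N = ⊥ ∨ N = ⊤ := fun N hN =>
      hN.eq_bot_or_eq_top
    rcases ZStar.cyclic_or_quaternion S.2 huniq with hc | ⟨n, ⟨e⟩⟩
    · obtain ⟨P, N, hN, hcompl⟩ := ZStar.hasNormalPComplement_of_cyclic S hc
      rcases hne N hN with rfl | rfl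
      · refine hns ?_
        have : IsPGroup 2 G := by
          have h := Subgroup.isComplement'_bot_left.mp hcompl
          exact P.2.of_equiv ((MulEquiv.subgroupCongr h).trans Subgroup.topEquiv)
        haveI := this.isNilpotent
        infer_instance
      · have h := hcompl.card_mul
        rw [Subgroup.card_top] at h
        have h1 : Nat.card (P : Subgroup G) = 1 :=
          Nat.eq_of_mul_eq_mul_left (Nat.card_pos (α := G)) (by rw [h, mul_one])
        exact P.ne_bot_of_dvd_card heven (Subgroup.card_eq_one.mp h1)
    · rcases n with _ | m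
      · have : IsCyclic (QuaternionGroup (2 ^ 0)) := by
          rw [pow_zero]; exact QuaternionGroup.quaternionGroup_one_isCyclic
        have hc : IsCyclic (S : Subgroup G) := isCyclic_of_surjective e.symm e.symm.surjective
        obtain ⟨P, N, hN, hcompl⟩ := ZStar.hasNormalPComplement_of_cyclic S hc
        rcases hne N hN with rfl | rfl
        · refine hns ?_
          have : IsPGroup 2 G := by
            have h := Subgroup.isComplement'_bot_left.mp hcompl
            exact P.2.of_equiv ((MulEquiv.subgroupCongr h).trans Subgroup.topEquiv)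
          haveI := this.isNilpotent
          infer_instance
        · have h := hcompl.card_mul
          rw [Subgroup.card_top] at h
          have h1 : Nat.card (P : Subgroup G) = 1 :=
            Nat.eq_of_mul_eq_mul_left (Nat.card_pos (α := G)) (by rw [h, mul_one])
          exact P.ne_bot_of_dvd_card heven (Subgroup.card_eq_one.mp h1)
      · have hc2 := Cfsg.Agent.S0201.result S m e fun N hN hodd =>
          (hne N hN).resolve_right fun h => by
            rw [h, Subgroup.card_top] at hodd
            exact absurd heven (by rw [Nat.two_dvd_ne_zero]; exact Nat.odd_iff.mp hodd)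
        rcases hne (Subgroup.center G) inferInstance with h | h
        · rw [h, Subgroup.card_bot] at hc2
          omega
        · refine hns (isSolvable_of_comm fun a b => ?_)
          exact ((Subgroup.mem_center_iff.mp (h ▸ Subgroup.mem_top a)) b).symm
  · push Not at huniq
    obtain ⟨x, y, hx, hy, hxy⟩ := huniq
    obtain ⟨w, hw, hwz⟩ : ∃ w : (S : Subgroup G), orderOf w = 2 ∧ w ≠ (z : (S : Subgroup G)) := by
      by_cases h : x = (z : (S : Subgroup G))
      · exact ⟨y, hy, fun e => hxy (h.trans e.symm)⟩
      · exact ⟨x, hx, h⟩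
    have hz1 : ((z : (S : Subgroup G)) : G) * ((z : (S : Subgroup G)) : G) = 1 := by
      have := congrArg Subtype.val (pow_orderOf_eq_one (z : (S : Subgroup G)))
      rwa [hz, Subgroup.coe_pow, pow_two, Subgroup.coe_one] at this
    have hw1 : (w : G) * (w : G) = 1 := by
      have := congrArg Subtype.val (pow_orderOf_eq_one w)
      rwa [hw, Subgroup.coe_pow, pow_two, Subgroup.coe_one] at this
    set a : G := ((z : (S : Subgroup G)) : G) with ha
    set b : G := (w : G) with hb
    have ha1 : a ≠ 1 := fun e => by
      have h1 : (z : (S : Subgroup G)) = 1 := Subtype.ext e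
      rw [h1, orderOf_one] at hz; omega
    have hb1 : b ≠ 1 := fun e => by
      have h1 : w = 1 := Subtype.ext e
      rw [h1, orderOf_one] at hw; omega
    have hab : a ≠ b := fun e => hwz (Subtype.ext e.symm)
    have hc : a * b = b * a := congrArg Subtype.val ((Subgroup.mem_center_iff.mp z.2 w).symm)
    have hm : a * b * (a * b) = 1 := by
      rw [mul_assoc a, ← mul_assoc b, ← hc, mul_assoc a b b, hw1, mul_one, hz1]
    have hinv : ∀ g : G, g * g = 1 → g⁻¹ = g := fun g hg => inv_eq_of_mul_eq_one_right hg
    obtain ⟨E, hE⟩ : ∃ E : Subgroup G, (E : Set G) = {g | g = 1 ∨ g = a ∨ g = b ∨ g = a * b} := by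
      refine ⟨{ carrier := {g | g = 1 ∨ g = a ∨ g = b ∨ g = a * b}
                one_mem' := Or.inl rfl
                inv_mem' := ?_
                mul_mem' := ?_ }, rfl⟩
      · rintro g g' h h'
        simp only [Set.mem_setOf_eq] at h h' ⊢
        have e1 : a * (a * b) = b := by rw [← mul_assoc, hz1, one_mul]
        have e2 : a * b * a = b := by rw [hc, mul_assoc, hz1, mul_one]
        have e3 : b * (a * b) = a := by rw [hc, ← mul_assoc, hw1, one_mul]
        have e4 : a * b * b = a := by rw [mul_assoc, hw1, mul_one]
        rcases h with rfl | rfl | rfl | rfl <;> rcases h' with rfl | rfl | rfl | rfl <;>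
          simp only [Set.mem_setOf_eq, one_mul, mul_one, hz1, hw1, hm, e1, e2, e3, e4, ← hc,
            true_or, or_true, eq_self_iff_true]
      · intro g h
        simp only [Set.mem_setOf_eq] at h ⊢
        rcases h with rfl | rfl | rfl | rfl
        · exact Or.inl inv_one
        · exact Or.inr (Or.inl (hinv _ hz1))
        · exact Or.inr (Or.inr (Or.inl (hinv _ hw1)))
        · exact Or.inr (Or.inr (Or.inr (hinv _ hm)))
    have hmem : ∀ g, g ∈ E ↔ (g = 1 ∨ g = a ∨ g = b ∨ g = a * b) := fun g => by
      rw [← SetLike.mem_coe, hE, Set.mem_setOf_eq]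
    refine ⟨E, ?_, ?_⟩
    · have h4 : Nat.card ({1, a, b, a * b} : Set G) = 4 := by
        rw [Nat.card_coe_set_eq, Set.ncard_insert_of_notMem, Set.ncard_insert_of_notMem,
          Set.ncard_insert_of_notMem, Set.ncard_singleton]
        · simp only [Set.mem_singleton_iff]; exact fun h => ha1 (by simpa using h.symm)
        · simp only [Set.mem_insert_iff, Set.mem_singleton_iff]; push Not
          exact ⟨hab, fun h => hb1 (by simpa using h.symm)⟩
        · simp only [Set.mem_insert_iff, Set.mem_singleton_iff]; push Not
          exact ⟨ha1.symm, hb1.symm, fun h => hab (by rw [← hinv _ hz1]; exact inv_eq_of_mul_eq_one_right h.symm)⟩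
      rw [← h4]
      refine Nat.card_congr (Equiv.subtypeEquivRight fun g => ?_)
      exact hmem g
    · refine Nat.dvd_antisymm (Monoid.exponent_dvd_of_forall_pow_eq_one fun g => ?_) ?_
      · apply Subtype.ext
        rw [Subgroup.coe_pow, pow_two, Subgroup.coe_one]
        rcases (hmem _).mp g.2 with h | h | h | h <;> rw [h]
        · exact one_mul 1
        · exact hz1
        · exact hw1
        · exact hm
      · have h2 : orderOf (⟨a, (hmem a).mpr (Or.inr (Or.inl rfl))⟩ : E) = 2 := by
          rw [Subgroup.orderOf_mk]
          exact orderOf_eq_prime (by rw [pow_two]; exact hz1) ha1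
        exact h2 ▸ Monoid.order_dvd_exponent _

end CfsgLib.OddConseq
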