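import Cfsg.Agent.Lib.OddConseq.Basic
import Cfsg.Agent.Lib.Fusion.Group
import Cfsg.Agent.Lib.Fusion.MetacyclicTwo
import Cfsg.Agent.Lib.Fusion.MetacyclicTwoAut
import Cfsg.Agent.Lib.ZStar.Basic
import Cfsg.Agent.Lib.Invol.SolvableCore
import Cfsg.Agent.S0071
import Cfsg.Agent.S0949

/-!
# Groups with a metacyclic Sylow 2-subgroup having a large cyclic quotient

If a Sylow 2-subgroup `S` has a cyclic normal subgroup with cyclic quotient of order at least `4`,
then `S` is not dihedral, quaternion or quasi-dihedral, so it is normal in the fusion system; the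
group is 2-nilpotent, or `S` is homocyclic and Brauer's theorem applies.
-/

set_option autoImplicit false

namespace CfsgLib.OddConseq

open Cfsg Cfsg.FusionSystem CfsgLib.Fusion

universe u

/-- With `S` normal in the fusion system and `Aut S` a 2-group there is a normal 2-complement. -/
theorem exists_complement_of_isNormal_self {G : Type u} [Group G] [Finite G] (S : Sylow 2 G)
    (hn : (groupFusionSystem (S : Subgroup G)).IsNormal (S : Subgroup G))
    (hA : IsPGroup 2 (MulAut (S : Subgroup G))) :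
    ∃ N : Subgroup G, N.Normal ∧ N.IsComplement' (S : Subgroup G) := by
  refine (Cfsg.Agent.S0071.result S).mpr fun Q hQ g hg hgo => ?_
  have hφ : ((MulAut.conj g).toMonoidHom.comp Q.subtype) ∈
      (groupFusionSystem (S : Subgroup G)).Hom Q :=
    ⟨hQ, fun x => hQ ((Subgroup.mem_normalizer_iff.mp hg x).mp x.2), g, fun x => rfl⟩
  obtain ⟨ψ, ⟨-, hψ, h, hh⟩, hext, -⟩ := hn.2 Q _ hφ
  have hact : ∀ x : Q, g * (x : G) * g⁻¹ = h * (x : G) * h⁻¹ := fun x => by
    have h1 := hext x
    rw [hh] at h1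
    exact h1.symm
  have := Fintype.ofFinite G
  have hhN : h ∈ Subgroup.normalizer ((S : Subgroup G) : Set G) :=
    Subgroup.mem_normalizer_fintype fun x hx => by
      have h1 := hψ ⟨x, Subgroup.mem_sup_right hx⟩
      rwa [hh] at h1
  obtain ⟨k, hk⟩ := hA ((S : Subgroup G).normalizerMonoidHom ⟨h, hhN⟩)
  have hk' : h ^ 2 ^ k ∈ Subgroup.centralizer ((S : Subgroup G) : Set G) := by
    have h1 : (⟨h, hhN⟩ : Subgroup.normalizer ((S : Subgroup G) : Set G)) ^ 2 ^ k ∈
        (S : Subgroup G).normalizerMonoidHom.ker := by rw [MonoidHom.mem_ker, map_pow, hk]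
    rw [Subgroup.normalizerMonoidHom_ker] at h1
    exact h1
  have hpow : ∀ (m : ℕ) (x : Q), g ^ m * (x : G) * (g ^ m)⁻¹ = h ^ m * (x : G) * (h ^ m)⁻¹ := by
    intro m
    induction m with
    | zero => simp
    | succ m ih =>
      intro x
      have hx : g * (x : G) * g⁻¹ ∈ Q := (Subgroup.mem_normalizer_iff.mp hg x).mp x.2
      calc g ^ (m + 1) * (x : G) * (g ^ (m + 1))⁻¹ = g ^ m * (g * x * g⁻¹) * (g ^ m)⁻¹ := by
            rw [pow_succ]; group
        _ = h ^ m * (g * x * g⁻¹) * (h ^ m)⁻¹ := ih ⟨_, hx⟩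
        _ = h ^ (m + 1) * (x : G) * (h ^ (m + 1))⁻¹ := by rw [hact x, pow_succ]; group
  have hgk : g ^ 2 ^ k ∈ Subgroup.centralizer (Q : Set G) := by
    refine Subgroup.mem_centralizer_iff.mpr fun x hx => ?_
    have h1 := hpow (2 ^ k) ⟨x, hx⟩
    have h2 := Subgroup.mem_centralizer_iff.mp hk' x (hQ hx)
    rw [show h ^ 2 ^ k * (x : G) * (h ^ 2 ^ k)⁻¹ = x by rw [← h2, mul_inv_cancel_right]] at h1
    exact (mul_inv_eq_iff_eq_mul.mp h1).symm
  obtain ⟨j, hj⟩ := exists_pow_eq_self_of_coprime (x := g) (n := 2 ^ k)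
    ((hgo.pow_right k).symm)
  exact hj ▸ pow_mem hgk j

theorem sq_eq_one_of_dihedral {Q : Type*} [Group Q] [IsCyclic Q] {m : ℕ}
    (f : DihedralGroup m →* Q) (x : DihedralGroup m) : f x ^ 2 = 1 := by
  letI := IsCyclic.commGroup (α := Q)
  have hsr : ∀ i : ZMod m, f (.sr i) ^ 2 = 1 := fun i => by
    rw [← map_pow, pow_two, DihedralGroup.sr_mul_self, map_one]
  cases x with
  | sr i => exact hsr i
  | r i =>
    rw [show DihedralGroup.r i = DihedralGroup.sr 0 * DihedralGroup.sr i by simp, map_mul, mul_pow,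
      hsr, hsr, one_mul]

theorem sq_eq_one_of_quaternion {Q : Type*} [Group Q] [IsCyclic Q] {m : ℕ} (hm : Even m)
    (f : QuaternionGroup m →* Q) (x : QuaternionGroup m) : f x ^ 2 = 1 := by
  letI := IsCyclic.commGroup (α := Q)
  have ha : ∀ i : ZMod (2 * m), f (.a i) ^ 2 = 1 := fun i => by
    have h : QuaternionGroup.xa (0 : ZMod (2 * m)) * QuaternionGroup.a i =
        QuaternionGroup.a (-i) * QuaternionGroup.xa 0 := by simp
    have h1 := congrArg f h
    rw [map_mul, map_mul, mul_comm] at h1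
    have h2 : f (.a i) = f (.a (-i)) := mul_right_cancel h1
    rw [pow_two]
    nth_rewrite 2 [h2]
    rw [← map_mul, QuaternionGroup.a_mul_a, add_neg_cancel]
    exact map_one f
  cases x with
  | a i => exact ha i
  | xa i =>
    obtain ⟨t, ht⟩ := hm
    rw [← map_pow, pow_two, QuaternionGroup.xa_mul_xa]
    have h3 := ha (t : ZMod (2 * m))
    rw [← map_pow, pow_two, QuaternionGroup.a_mul_a] at h3
    convert h3 using 3
    simp [ht]

theorem card_le_two_of_quasiDihedral {S : Type*} [Group S] [Finite S] (h : Cfsg.IsQuasiDihedral S)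
    (N : Subgroup S) [N.Normal] [IsCyclic (S ⧸ N)] : Nat.card (S ⧸ N) ≤ 2 := by
  obtain ⟨n, hn, hcard, x, y, hx, hy, hxy⟩ := h
  letI := IsCyclic.commGroup (α := S ⧸ N)
  obtain ⟨q, hq⟩ := IsCyclic.exists_generator (α := S ⧸ N)
  set f := QuotientGroup.mk' N
  have hf : f x ^ 2 = 1 := by
    have h1 := congrArg f hxy
    rw [map_mul, map_mul, map_inv, map_pow, mul_comm (f y), mul_inv_cancel_right] at h1
    obtain ⟨d, rfl⟩ : ∃ d, n = d + 3 := ⟨n - 3, by omega⟩
    have h4 : f x ^ 2 ^ (d + 3) = 1 := by rw [← map_pow, ← hx, pow_orderOf_eq_one, map_one]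
    have h2' : f x ^ (2 ^ (d + 2) - 2) = 1 := by
      have hle : 4 ≤ 2 ^ (d + 2) := by rw [pow_add]; nlinarith [Nat.one_le_two_pow (n := d)]
      simp only [show d + 3 - 1 = d + 2 from rfl] at h1
      rw [show 2 ^ (d + 2) - 1 = (2 ^ (d + 2) - 2) + 1 by omega, pow_succ] at h1
      exact (right_eq_mul.mp h1)
    refine orderOf_dvd_iff_pow_eq_one.mp ?_
    have hg := Nat.dvd_gcd (orderOf_dvd_of_pow_eq_one h2') (orderOf_dvd_of_pow_eq_one h4)
    refine hg.trans ?_
    have he : 2 ^ (d + 2) - 2 = 2 * (2 ^ (d + 1) - 1) := by rw [pow_succ]; omega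
    rw [he, show 2 ^ (d + 3) = 2 * 2 ^ (d + 2) by ring, Nat.gcd_mul_left]
    have hc : Nat.Coprime (2 ^ (d + 1) - 1) (2 ^ (d + 2)) :=
      Nat.Coprime.pow_right _ ((Nat.coprime_two_right).mpr (by
        have : Even (2 ^ (d + 1)) := ⟨2 ^ d, by ring⟩
        exact Nat.Even.sub_odd Nat.one_le_two_pow this odd_one))
    rw [hc]
  have hg2 : f y ^ 2 = 1 := by rw [← map_pow, ← hy, pow_orderOf_eq_one, map_one]
  -- `x` and `y` generate `S`
  have htop : ∀ s : S, f s ^ 2 = 1 := by
    have hyx : y ∉ Subgroup.zpowers x := fun hmem => by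
      obtain ⟨i, hi⟩ := hmem
      simp only at hi
      rw [← hi, ← zpow_neg, ← zpow_add_one, ← zpow_add, ← zpow_natCast] at hxy
      have h1 := hxy
      rw [show i + 1 + -i = (1 : ℤ) by ring, zpow_one, zpow_natCast] at h1
      have h2 := (pow_eq_pow_iff_modEq (x := x) (n := 1)).mp ((pow_one x).trans h1)
      rw [hx] at h2
      have h8 : 2 ^ n = 2 * 2 ^ (n - 1) := by
        rw [← pow_succ', show n - 1 + 1 = n by omega]
      have h4 : 4 ≤ 2 ^ (n - 1) :=
        le_trans (by norm_num) (Nat.pow_le_pow_right (by norm_num) (show 2 ≤ n - 1 by omega))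
      have h5 : 2 ^ n ∣ 2 ^ (n - 1) - 1 - 1 := (Nat.modEq_iff_dvd' (by omega)).mp h2
      have h3 := Nat.le_of_dvd (by omega) h5
      omega
    intro s
    let K : Subgroup S := (MonoidHom.ker ((powMonoidHom 2).comp f))
    have hxK : x ∈ K := hf
    have hyK : y ∈ K := hg2
    have hlt : Subgroup.zpowers x < K :=
      lt_of_le_of_ne (Subgroup.zpowers_le.mpr hxK) fun e => hyx (e ▸ hyK)
    have hcardlt : 2 ^ n < Nat.card K := by
      rw [← hx, ← Nat.card_zpowers]
      exact lt_of_le_of_ne (Subgroup.card_le_of_le hlt.le) fun e =>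
        hlt.ne (Subgroup.eq_of_le_of_card_ge hlt.le e.ge)
    have hK : K = ⊤ := by
      refine Subgroup.eq_top_of_card_eq K ?_
      obtain ⟨j, hj, hj'⟩ := (Nat.dvd_prime_pow Nat.prime_two).mp
        (hcard ▸ Subgroup.card_subgroup_dvd_card K)
      rw [hj'] at hcardlt ⊢
      have := (Nat.pow_lt_pow_iff_right one_lt_two).mp hcardlt
      rw [hcard, show j = n + 1 by omega]
    exact (hK ▸ Subgroup.mem_top s : s ∈ K)
  obtain ⟨s, rfl⟩ := QuotientGroup.mk'_surjective N q
  rw [← orderOf_eq_card_of_forall_mem_zpowers hq]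
  exact orderOf_le_of_pow_eq_one two_pos (htop s)

theorem false_of_sq {S H : Type*} [Group S] [Group H] (N : Subgroup S) [N.Normal]
    [IsCyclic (S ⧸ N)] (hQ : 2 < Nat.card (S ⧸ N)) (e : S ≃* H)
    (h : ∀ (f : H →* S ⧸ N) x, f x ^ 2 = 1) : False := by
  obtain ⟨q, hq⟩ := IsCyclic.exists_generator (α := S ⧸ N)
  obtain ⟨s, rfl⟩ := QuotientGroup.mk'_surjective N q
  rw [← orderOf_eq_card_of_forall_mem_zpowers hq] at hQ
  have := h ((QuotientGroup.mk' N).comp e.symm.toMonoidHom) (e s)
  simp only [MonoidHom.comp_apply, MulEquiv.coe_toMonoidHom, MulEquiv.symm_apply_apply] at this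
  exact absurd (orderOf_le_of_pow_eq_one two_pos this) (not_le.mpr hQ)

theorem solvable_quotient_of_homocyclic {G : Type u} [Group G] [Finite G] (S : Sylow 2 G)
    (n : ℕ) (hn : 2 ≤ n)
    (e : ↥(S : Subgroup G) ≃* Multiplicative (Fin 2 → ZMod (2 ^ n))) :
    Group.IsSolvable (G ⧸ Cfsg.oddCore G) := by
  set O := Cfsg.oddCore G
  set f := QuotientGroup.mk' O
  let P := S.mapSurjective (QuotientGroup.mk'_surjective O)
  have hinj : Function.Injective (f.subgroupMap (S : Subgroup G)) := by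
    refine (injective_iff_map_eq_one _).mpr fun x hx => ?_
    have hxO : (x : G) ∈ O := (QuotientGroup.eq_one_iff _).mp (congrArg Subtype.val hx)
    obtain ⟨k, hk⟩ := S.2 x
    refine Subtype.ext (orderOf_eq_one_iff.mp (Nat.eq_one_of_dvd_coprimes
      ((Transfer.pPrimeCore_coprime (G := G) 2).pow_right k)
      (Subgroup.orderOf_dvd_natCard _ hxO)
      (orderOf_dvd_of_pow_eq_one (congrArg Subtype.val hk :))))
  let e1 : ↥(S : Subgroup G) ≃* ↥((S : Subgroup G).map f) :=
    MulEquiv.ofBijective _ ⟨hinj, MonoidHom.subgroupMap_surjective _ _⟩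
  let e2 : ↥(P : Subgroup (G ⧸ O)) ≃* Multiplicative (ZMod (2 ^ n) × ZMod (2 ^ n)) :=
    ((MulEquiv.subgroupCongr (S.coe_mapSurjective _)).trans (e1.symm.trans e)).trans
      (AddEquiv.toMultiplicative (RingEquiv.piFinTwo _).toAddEquiv)
  obtain ⟨hP, -, hidx⟩ := Cfsg.Agent.S0949.result P n hn e2 fun M hM hodd => by
    haveI := hM
    have h := Transfer.le_pPrimeCore (p := 2) hM (Nat.coprime_two_right.mpr hodd)
    rwa [show Cfsg.pPrimeCore 2 (G ⧸ O) = ⊥ from Invol.oddCore_quotient_eq_bot, le_bot_iff] at h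
  haveI := hP
  haveI : Group.IsSolvable (P : Subgroup (G ⧸ O)) :=
    isSolvable_of_comm fun a b => e2.injective (by rw [map_mul, map_mul, mul_comm])
  haveI : Group.IsSolvable ((G ⧸ O) ⧸ (P : Subgroup (G ⧸ O))) := by
    rcases hidx with h | h <;> rw [Subgroup.index_eq_card] at h
    · haveI : Subsingleton ((G ⧸ O) ⧸ (P : Subgroup (G ⧸ O))) := (Nat.card_eq_one_iff_unique.mp h).1
      exact isSolvable_of_comm fun a b => Subsingleton.elim _ _
    · haveI := Fact.mk Nat.prime_three
      haveI := isCyclic_of_prime_card h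
      letI := IsCyclic.commGroup (α := (G ⧸ O) ⧸ (P : Subgroup (G ⧸ O)))
      exact isSolvable_of_comm fun a b => mul_comm a b
  exact solvable_of_ker_le_range (P : Subgroup (G ⧸ O)).subtype
    (QuotientGroup.mk' (P : Subgroup (G ⧸ O))) (by simp)

theorem solvable_of_metacyclic_sylow (hFT : OddSolvable.{u}) {G : Type u} [Group G] [Finite G]
    (S : Sylow 2 G) (N : Subgroup ↥(S : Subgroup G)) [hN : N.Normal] (hNc : IsCyclic N)
    (hQc : IsCyclic (↥(S : Subgroup G) ⧸ N)) (hQ : 2 < Nat.card (↥(S : Subgroup G) ⧸ N)) :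
    Group.IsSolvable G := by
  have hcompl : ∀ K : Subgroup G, K.Normal → K.IsComplement' (S : Subgroup G) →
      Group.IsSolvable G := by
    intro K hK hcompl
    haveI : Group.IsSolvable K := hFT K (by
      rw [Nat.odd_iff, ← Nat.two_dvd_ne_zero, ← hcompl.index_eq_card]
      exact S.not_dvd_index)
    haveI : Group.IsSolvable (G ⧸ K) := by
      haveI : IsPGroup 2 (G ⧸ K) := IsPGroup.of_card (n := (Nat.card G).factorization 2) (by
        rw [← Subgroup.index_eq_card, hcompl.symm.index_eq_card, S.card_eq_multiplicity])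
      haveI := ‹IsPGroup 2 (G ⧸ K)›.isNilpotent
      infer_instance
    exact solvable_of_ker_le_range K.subtype (QuotientGroup.mk' K) (by simp)
  by_cases hcyc : IsCyclic ↥(S : Subgroup G)
  · obtain ⟨K, hK, hc⟩ := (Transfer.hasNormalPComplement_iff_forall_sylow S).mp
      (ZStar.hasNormalPComplement_of_cyclic S hcyc)
    exact hcompl K hK hc
  have hm : Cfsg.IsMetacyclic ↥(S : Subgroup G) := ⟨N, hN, hNc, hQc⟩
  have hclosed : (groupFusionSystem (S : Subgroup G)).StronglyClosed (S : Subgroup G) :=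
    ⟨le_rfl, fun P _ φ hφ x => hφ.2.1 x⟩
  have hnorm := isNormal_of_metacyclic_two S.2 (isSaturated_group S) hclosed hm
    (fun ⟨m, ⟨e⟩⟩ => false_of_sq N hQ e (sq_eq_one_of_dihedral (m := m)))
    (fun ⟨m, ⟨e⟩⟩ => by
      rcases Nat.even_or_odd m with hm' | hm'
      · exact false_of_sq N hQ e (sq_eq_one_of_quaternion hm')
      · haveI : Finite (QuaternionGroup m) := Finite.of_equiv _ e.toEquiv
        obtain ⟨k, hk⟩ := IsPGroup.iff_card.mp (S.2.of_equiv e)
        refine hcyc ?_
        rcases Nat.eq_zero_or_pos m with rfl | hpos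
        · simp at hm'
        haveI : NeZero m := ⟨hpos.ne'⟩
        rw [Nat.card_eq_fintype_card, QuaternionGroup.card] at hk
        have : m = 1 := by
          obtain ⟨j, -, hj⟩ := (Nat.dvd_prime_pow Nat.prime_two).mp (Dvd.intro_left 4 hk)
          rcases j with _ | j
          · simpa using hj
          · exact absurd hm' (Nat.not_odd_iff_even.mpr ⟨2 ^ j, by rw [hj, pow_succ]; ring⟩)
        subst this
        haveI := QuaternionGroup.quaternionGroup_one_isCyclic
        exact e.isCyclic.mpr inferInstance)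
    (fun h => absurd (card_le_two_of_quasiDihedral h N) (not_le.mpr hQ))
  by_cases hA : IsPGroup 2 (MulAut ↥(S : Subgroup G))
  · obtain ⟨K, hK, hc⟩ := exists_complement_of_isNormal_self S hnorm hA
    exact hcompl K hK hc
  rcases homocyclic_or_quaternion_of_not_isPGroup S.2 hm hA with ⟨n, hn, ⟨e⟩⟩ | ⟨⟨e⟩⟩
  · rcases Nat.lt_or_ge n 2 with hn2 | hn2
    · obtain rfl : n = 1 := by omega
      refine (false_of_sq N hQ e fun f x => ?_).elim
      rw [← map_pow]
      convert map_one f using 2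
      apply Multiplicative.toAdd.injective
      funext i
      have h2 : ∀ z : ZMod (2 ^ 1), z + z = 0 := by decide
      simp [pow_two, h2]
    · set O := Cfsg.oddCore G
      haveI : O.Normal := inferInstance
      haveI : Group.IsSolvable O := hFT O ZStar.odd_card_core
      haveI : Group.IsSolvable (G ⧸ O) := solvable_quotient_of_homocyclic S n hn2 e
      exact solvable_of_ker_le_range O.subtype (QuotientGroup.mk' O) (by simp)
  · exact (false_of_sq N hQ e (sq_eq_one_of_quaternion (by decide))).elim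

end CfsgLib.OddConseq
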