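import Cfsg.Agent.Lib.Fusion.Normal
import Cfsg.Agent.Lib.Fusion.Group
import Cfsg.Agent.Lib.IsolatedMin.Basic
import Cfsg.Agent.Lib.ZStar.Main

/-!
# Automorphisms centralizing a Sylow 2-subgroup

Let `X = GT` with `G` normal without odd core, `G ∩ T = 1`, `T` acting faithfully on `G` and
centralizing `S`, and `S T` a Sylow 2-subgroup.  An automorphism `ψ` of `X` keeping `G` and `T` and
fixing `S` fixes `T`: every centric radical subgroup `R` contains `T`, so the subgroup generated by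
the `t⁻¹ψ(t)` is normal in the fusion system, and the Z*-theorem makes it trivial.
-/

set_option autoImplicit false

namespace CfsgLib.OddConseq

open Cfsg Cfsg.FusionSystem CfsgLib.Fusion

universe u

variable {X : Type u} [Group X] [Finite X]

/-- Splitting of a product modulo the normal factor. -/
structure SplitData (X : Type u) [Group X] [Finite X] where
  G : Subgroup X
  T : Subgroup X
  S : Subgroup X
  P : Sylow 2 X
  normal : G.Normal
  eqP : (P : Subgroup X) = S ⊔ T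
  leG : S ≤ G
  disj : G ⊓ T = ⊥
  sup : G ⊔ T = ⊤
  comm : ∀ s ∈ S, ∀ t ∈ T, s * t = t * s

namespace SplitData

variable (d : SplitData X)

theorem eq_of_mem_of_mem {x : X} (hG : x ∈ d.G) (hT : x ∈ d.T) : x = 1 :=
  Subgroup.mem_bot.mp (d.disj ▸ Subgroup.mem_inf.mpr ⟨hG, hT⟩)

theorem le_normalizer_T : d.S ≤ Subgroup.normalizer (d.T : Set X) := fun s hs =>
  Subgroup.centralizer_le_normalizer _
    (Subgroup.mem_centralizer_iff.mpr fun t ht => (d.comm s hs t ht).symm)

theorem T_le_P : d.T ≤ (d.P : Subgroup X) := d.eqP ▸ le_sup_right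

theorem exists_eq_mul {x : X} (hx : x ∈ (d.P : Subgroup X)) :
    ∃ s ∈ d.S, ∃ t ∈ d.T, x = s * t := by
  rw [d.eqP, ← SetLike.mem_coe,
    Subgroup.coe_mul_of_left_le_normalizer_right _ _ d.le_normalizer_T] at hx
  obtain ⟨s, hs, t, ht, h⟩ := hx
  exact ⟨s, hs, t, ht, h.symm⟩

theorem P_le_normalizer_T : (d.P : Subgroup X) ≤ Subgroup.normalizer (d.T : Set X) :=
  d.eqP ▸ sup_le d.le_normalizer_T Subgroup.le_normalizer

theorem mem_S {x : X} (hP : x ∈ (d.P : Subgroup X)) (hG : x ∈ d.G) : x ∈ d.S := by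
  obtain ⟨s, hs, t, ht, rfl⟩ := d.exists_eq_mul hP
  have : t = 1 := d.eq_of_mem_of_mem (by simpa using mul_mem (inv_mem (d.leG hs)) hG) ht
  rwa [this, mul_one]

theorem commute_of_mem {x t : X} (hP : x ∈ (d.P : Subgroup X)) (hG : x ∈ d.G) (ht : t ∈ d.T) :
    x * t = t * x :=
  d.comm x (d.mem_S hP hG) t ht

theorem exists_decomp (x : X) : ∃ a ∈ d.G, ∃ v ∈ d.T, x = a * v := by
  haveI := d.normal
  obtain ⟨a, ha, v, hv, h⟩ := Subgroup.mem_sup_of_normal_left.mp (d.sup ▸ Subgroup.mem_top x)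
  exact ⟨a, ha, v, hv, h.symm⟩

theorem conj_mem_G (g : X) {x : X} (hx : x ∈ d.G) : g * x * g⁻¹ ∈ d.G :=
  d.normal.conj_mem x hx g

theorem mk_eq_one [d.G.Normal] {x : X} (hx : x ∈ d.G) : QuotientGroup.mk' d.G x = 1 :=
  (QuotientGroup.eq_one_iff x).mpr hx

/-- In a centric radical subgroup lies `T`. -/
theorem T_le_of_radical {R : Subgroup X}
    (hc : (groupFusionSystem (d.P : Subgroup X)).IsCentric R)
    (hr : (groupFusionSystem (d.P : Subgroup X)).IsRadical 2 R) : d.T ≤ R := by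
  haveI := d.normal
  set F := groupFusionSystem (d.P : Subgroup X)
  have := Fintype.ofFinite X
  have := finite_mulAut R
  have hauto : ∀ α ∈ F.autGroup R, ∃ x : X, ∀ r : R, (α r : X) = x * r * x⁻¹ := fun α hα => by
    rw [autGroup_groupFusionSystem d.P hc.1, mem_autInducedBy_iff] at hα
    obtain ⟨x, -, hx⟩ := hα
    exact ⟨x, hx⟩
  set L : Subgroup R := d.G.subgroupOf R
  set f : X →* X ⧸ d.G := QuotientGroup.mk' d.G
  let K : Subgroup (MulAut R) :=
    { carrier := {α | α ∈ F.autGroup R ∧ (∀ r ∈ L, α r = r) ∧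
        ∃ w ∈ d.T, ∀ r : R, f (α r : X) = f w * f r * (f w)⁻¹}
      one_mem' := ⟨Subgroup.one_mem _, fun r _ => rfl, 1, one_mem _, fun r => by simp⟩
      mul_mem' := by
        rintro α β ⟨hα, hα1, w, hw, hαw⟩ ⟨hβ, hβ1, v, hv, hβv⟩
        refine ⟨Subgroup.mul_mem _ hα hβ, fun r hr => ?_, w * v, mul_mem hw hv, fun r => ?_⟩
        · rw [MulAut.mul_apply, hβ1 r hr, hα1 r hr]
        · rw [MulAut.mul_apply, hαw, hβv, map_mul]; group
      inv_mem' := by
        rintro α ⟨hα, hα1, w, hw, hαw⟩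
        refine ⟨Subgroup.inv_mem _ hα, fun r hr => ?_, w⁻¹, inv_mem hw, fun r => ?_⟩
        · conv_lhs => rw [← hα1 r hr]
          exact MulAut.inv_apply_self _ α r
        · have h := hαw (α⁻¹ r)
          rw [MulAut.apply_inv_self] at h
          rw [map_inv, h]; group }
  have hKle : K ≤ F.autGroup R := fun α hα => hα.1
  have hKn : (K.subgroupOf (F.autGroup R)).Normal := by
    refine ⟨fun α hα β => ⟨(β * α * β⁻¹ : F.autGroup R).2, fun r hr => ?_, ?_⟩⟩
    · show ((β : MulAut R) * (α : MulAut R) * (β : MulAut R)⁻¹) r = r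
      rw [MulAut.mul_apply, MulAut.mul_apply]
      obtain ⟨x, hx⟩ := hauto _ (Subgroup.inv_mem _ β.2)
      have hr' : ((β : MulAut R)⁻¹ r) ∈ L := by
        rw [Subgroup.mem_subgroupOf, hx r]
        exact d.conj_mem_G x hr
      rw [show (α : MulAut R) ((β : MulAut R)⁻¹ r) = _ from hα.2.1 _ hr', MulAut.apply_inv_self]
    · obtain ⟨-, -, w, hw, hαw⟩ := (show (α : MulAut R) ∈ K from hα)
      obtain ⟨x, hx⟩ := hauto _ β.2
      obtain ⟨a, ha, v, hv, rfl⟩ := d.exists_decomp x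
      refine ⟨v * w * v⁻¹, mul_mem (mul_mem hv hw) (inv_mem hv), fun r => ?_⟩
      show f (((β : MulAut R) * (α : MulAut R) * (β : MulAut R)⁻¹) r : X) = _
      rw [MulAut.mul_apply, MulAut.mul_apply, hx, map_mul, map_mul, map_inv, hαw]
      have hfx : f (a * v) = f v := by rw [map_mul, show f a = 1 from d.mk_eq_one ha, one_mul]
      have hinv : f (((β : MulAut R)⁻¹ r : R) : X) = (f v)⁻¹ * f r * f v := by
        have h := congrArg f (hx ((β : MulAut R)⁻¹ r))
        rw [MulAut.apply_inv_self, map_mul, map_mul, map_inv, hfx] at h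
        rw [h]; group
      rw [hfx, hinv, map_mul, map_mul, map_inv]; group
  -- the series stabilizer inside `K` is a 2-group, hence so is `K`
  let Z : Subgroup (MulAut R) :=
    { carrier := {α | (∀ r ∈ L, α r = r) ∧ ∀ r : R, f (α r : X) = f r}
      one_mem' := ⟨fun r _ => rfl, fun r => rfl⟩
      mul_mem' := by
        rintro α β ⟨h1, h2⟩ ⟨h1', h2'⟩
        exact ⟨fun r hr => by rw [MulAut.mul_apply, h1' r hr, h1 r hr],
          fun r => by rw [MulAut.mul_apply, h2, h2']⟩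
      inv_mem' := by
        rintro α ⟨h1, h2⟩
        refine ⟨fun r hr => ?_, fun r => ?_⟩
        · conv_lhs => rw [← h1 r hr]
          exact MulAut.inv_apply_self _ α r
        · have h := h2 (α⁻¹ r)
          rw [MulAut.apply_inv_self] at h
          exact h.symm }
  have hZp : IsPGroup 2 Z :=
    isPGroup_of_stabilizes_series (d.P.2.to_le hc.1)
      (fun i => if i = 0 then ⊥ else if i = 1 then L else ⊤) 2 rfl rfl Z fun α hα i hi r hr => by
      interval_cases i
      · simp only [zero_add, one_ne_zero, if_false, if_true] at hr ⊢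
        rw [Subgroup.mem_bot, hα.1 r hr, inv_mul_cancel]
      · simp only [one_ne_zero, if_false, if_true] at hr ⊢
        rw [Subgroup.mem_subgroupOf, Subgroup.coe_mul, Subgroup.coe_inv]
        refine (QuotientGroup.eq_one_iff (N := d.G) _).mp ?_
        show f ((r : X)⁻¹ * (α r : X)) = 1
        rw [map_mul, map_inv, hα.2 r, inv_mul_cancel]
  have hKp : IsPGroup 2 K := by
    intro α
    obtain ⟨-, hα1, w, hw, hαw⟩ := α.2
    obtain ⟨k, hk⟩ := (d.P.2.to_le d.T_le_P) ⟨w, hw⟩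
    have hwk : w ^ 2 ^ k = 1 := congrArg Subtype.val hk
    have hpow : ∀ (m : ℕ) (r : R), f ((((α : MulAut R) ^ m) r : R) : X) =
        (f w) ^ m * f r * ((f w) ^ m)⁻¹ := fun m => by
      induction m with
      | zero => intro r; simp
      | succ m ih => intro r; rw [pow_succ', MulAut.mul_apply, hαw, ih, pow_succ' (f w)]; group
    have hmem : (α : MulAut R) ^ 2 ^ k ∈ Z := by
      refine ⟨fun r hr => ?_, fun r => ?_⟩
      · have h : ∀ m : ℕ, ((α : MulAut R) ^ m) r = r := fun m => by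
          induction m with
          | zero => rfl
          | succ m ih => rw [pow_succ', MulAut.mul_apply, ih, hα1 r hr]
        exact h _
      · rw [hpow, ← map_pow, hwk, map_one, one_mul, inv_one, mul_one]
    obtain ⟨l, hl⟩ := hZp ⟨_, hmem⟩
    refine ⟨k + l, Subtype.ext ?_⟩
    rw [Subgroup.coe_pow, pow_add, pow_mul, Subgroup.coe_one]
    exact congrArg Subtype.val hl
  refine le_of_normalizer_inf_le d.P.2 hc.1 d.T_le_P
    (fun x hx => d.P_le_normalizer_T (hc.1 hx)) fun u huT huR => ?_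
  have huK : conjAut R huR ∈ K := by
    refine ⟨?_, fun r hr => Subtype.ext ?_, u, huT, fun r => ?_⟩
    · rw [autGroup_groupFusionSystem d.P hc.1]
      exact conjAut_mem_autInducedBy huR (Subgroup.mem_top u)
    · rw [conjAut_apply, ← d.commute_of_mem (hc.1 r.2) hr huT]; group
    · rw [conjAut_apply, map_mul, map_mul, map_inv]
  exact mem_of_mem_pCore hc hr ⟨d.T_le_P huT, huR⟩ (α := ⟨_, hKle huK⟩) (conjAut_apply R huR)
    (CfsgLib.Fitting.le_pCore hKn (hKp.of_equiv (Subgroup.subgroupOfEquivOfLe hKle).symm) huK)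

/-- An element acting trivially on both layers of `R` acts like an element of `R`. -/
theorem exists_inner {R : Subgroup X}
    (hR : R = (d.P : Subgroup X) ∨ (groupFusionSystem (d.P : Subgroup X)).IsEssential 2 R)
    {x : X} (hx : x ∈ Subgroup.normalizer (R : Set X)) (hxG : x ∈ d.G)
    (hfix : ∀ r ∈ R, r ∈ d.G → x * r * x⁻¹ = r) :
    ∃ y ∈ R, ∀ r ∈ R, x * r * x⁻¹ = y * r * y⁻¹ := by
  haveI := d.normal
  set F := groupFusionSystem (d.P : Subgroup X)
  have hRP : R ≤ (d.P : Subgroup X) := by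
    rcases hR with rfl | hR
    · exact le_rfl
    · exact hR.1.1
  have := Fintype.ofFinite X
  have := finite_mulAut R
  set L : Subgroup R := d.G.subgroupOf R
  set f : X →* X ⧸ d.G := QuotientGroup.mk' d.G
  have hx1 : f x = 1 := d.mk_eq_one hxG
  let Z : Subgroup (MulAut R) :=
    { carrier := {α | α ∈ F.autGroup R ∧ (∀ r ∈ L, α r = r) ∧ ∀ r : R, f (α r : X) = f r}
      one_mem' := ⟨Subgroup.one_mem _, fun r _ => rfl, fun r => rfl⟩
      mul_mem' := by
        rintro α β ⟨h0, h1, h2⟩ ⟨h0', h1', h2'⟩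
        exact ⟨Subgroup.mul_mem _ h0 h0', fun r hr => by rw [MulAut.mul_apply, h1' r hr, h1 r hr],
          fun r => by rw [MulAut.mul_apply, h2, h2']⟩
      inv_mem' := by
        rintro α ⟨h0, h1, h2⟩
        refine ⟨Subgroup.inv_mem _ h0, fun r hr => ?_, fun r => ?_⟩
        · conv_lhs => rw [← h1 r hr]
          exact MulAut.inv_apply_self _ α r
        · have h := h2 (α⁻¹ r)
          rw [MulAut.apply_inv_self] at h
          exact h.symm }
  have hZp : IsPGroup 2 Z :=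
    isPGroup_of_stabilizes_series (d.P.2.to_le hRP)
      (fun i => if i = 0 then ⊥ else if i = 1 then L else ⊤) 2 rfl rfl Z fun α hα i hi r hr => by
      interval_cases i
      · simp only [zero_add, one_ne_zero, if_false, if_true] at hr ⊢
        rw [Subgroup.mem_bot, hα.2.1 r hr, inv_mul_cancel]
      · simp only [one_ne_zero, if_false, if_true] at hr ⊢
        rw [Subgroup.mem_subgroupOf, Subgroup.coe_mul, Subgroup.coe_inv]
        refine (QuotientGroup.eq_one_iff (N := d.G) _).mp ?_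
        show f ((r : X)⁻¹ * (α r : X)) = 1
        rw [map_mul, map_inv, hα.2.2 r, inv_mul_cancel]
  have hxZ : conjAut R hx ∈ Z := by
    refine ⟨?_, fun r hr => Subtype.ext ?_, fun r => ?_⟩
    · rw [autGroup_groupFusionSystem d.P hRP]
      exact conjAut_mem_autInducedBy hx (Subgroup.mem_top x)
    · rw [conjAut_apply, hfix r r.2 hr]
    · rw [conjAut_apply, map_mul, map_mul, map_inv, hx1, one_mul, inv_one, mul_one]
  rcases hR with rfl | hR
  · -- a 2-part of `x` acts like `x`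
    obtain ⟨k, hk⟩ := hZp ⟨_, hxZ⟩
    obtain ⟨b, r, hr, hord⟩ := Nat.exists_eq_pow_mul_and_not_dvd (orderOf_pos x).ne' 2 (by norm_num)
    obtain ⟨c, hc1, hc0⟩ := Nat.chineseRemainder
      (((Nat.prime_two.coprime_iff_not_dvd).mpr hr).pow_left (max k b)) 1 0
    have hconj : conjAut (d.P : Subgroup X) hx ^ c = conjAut (d.P : Subgroup X) hx := by
      have hd : orderOf (conjAut (d.P : Subgroup X) hx) ∣ 2 ^ max k b :=
        (orderOf_dvd_of_pow_eq_one (congrArg Subtype.val hk)).trans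
          (pow_dvd_pow 2 (le_max_left k b))
      conv_rhs => rw [← pow_one (conjAut (d.P : Subgroup X) hx)]
      exact pow_eq_pow_iff_modEq.mpr (Nat.ModEq.of_dvd hd hc1)
    have hxc : IsPGroup 2 (Subgroup.zpowers (x ^ c)) := by
      refine IsPGroup.of_card (n := (Nat.log 2 (orderOf (x ^ c)))) ?_
      rw [Nat.card_zpowers]
      have h1 : (x ^ c) ^ 2 ^ max k b = 1 := by
        rw [← pow_mul]
        refine orderOf_dvd_iff_pow_eq_one.mp ?_
        rw [hord, mul_comm c]
        exact mul_dvd_mul (pow_dvd_pow 2 (le_max_right k b)) (Nat.modEq_zero_iff_dvd.mp hc0)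
      obtain ⟨j, -, hj⟩ := (Nat.dvd_prime_pow Nat.prime_two).mp (orderOf_dvd_of_pow_eq_one h1)
      rw [hj, Nat.log_pow one_lt_two]
    have hxcN : x ^ c ∈ Subgroup.normalizer ((d.P : Subgroup X) : Set X) := pow_mem hx c
    have hle : (d.P : Subgroup X) ⊔ Subgroup.zpowers (x ^ c) = (d.P : Subgroup X) :=
      d.P.3 (IsPGroup.to_sup_of_normal_left' d.P.2 hxc (Subgroup.zpowers_le.mpr hxcN)) le_sup_left
    refine ⟨x ^ c, hle ▸ Subgroup.mem_sup_right (Subgroup.mem_zpowers _), fun r hr => ?_⟩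
    have h := congrArg (fun φ : MulAut (d.P : Subgroup X) => (φ ⟨r, hr⟩ : X)) hconj
    have hp : ∀ m : ℕ, (((conjAut (d.P : Subgroup X) hx) ^ m) ⟨r, hr⟩ : X) =
        x ^ m * r * (x ^ m)⁻¹ := fun m => by
      induction m with
      | zero => simp
      | succ m ih => rw [pow_succ', MulAut.mul_apply, conjAut_apply, ih, pow_succ' x]; group
    simp only [hp, conjAut_apply] at h
    exact h.symm
  · have hZle : Z ≤ F.autGroup R := fun α hα => hα.1
    have hauto : ∀ α ∈ F.autGroup R, ∃ g : X, ∀ r : R, (α r : X) = g * r * g⁻¹ := fun α hα => by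
      rw [autGroup_groupFusionSystem d.P hRP, mem_autInducedBy_iff] at hα
      obtain ⟨g, -, hg⟩ := hα
      exact ⟨g, hg⟩
    have hZn : (Z.subgroupOf (F.autGroup R)).Normal := by
      refine ⟨fun α hα β => ⟨(β * α * β⁻¹ : F.autGroup R).2, fun r hr => ?_, fun r => ?_⟩⟩
      · show ((β : MulAut R) * (α : MulAut R) * (β : MulAut R)⁻¹) r = r
        rw [MulAut.mul_apply, MulAut.mul_apply]
        obtain ⟨g, hg⟩ := hauto _ (Subgroup.inv_mem _ β.2)
        have hr' : ((β : MulAut R)⁻¹ r) ∈ L := by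
          rw [Subgroup.mem_subgroupOf, hg r]
          exact d.conj_mem_G g hr
        rw [show (α : MulAut R) ((β : MulAut R)⁻¹ r) = _ from hα.2.1 _ hr', MulAut.apply_inv_self]
      · show f (((β : MulAut R) * (α : MulAut R) * (β : MulAut R)⁻¹) r : X) = f r
        rw [MulAut.mul_apply, MulAut.mul_apply]
        obtain ⟨g, hg⟩ := hauto _ β.2
        rw [hg, map_mul, map_mul, show f ((α : MulAut R) ((β : MulAut R)⁻¹ r) : X) = _ from hα.2.2 _,
          ← map_mul, ← map_mul, ← hg, MulAut.apply_inv_self]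
    have hcore := CfsgLib.Fitting.le_pCore hZn
      (hZp.of_equiv (Subgroup.subgroupOfEquivOfLe hZle).symm)
      (show (⟨_, hZle hxZ⟩ : F.autGroup R) ∈ Z.subgroupOf (F.autGroup R) from hxZ)
    have hinn : conjAut R hx ∈ Cfsg.Inn R :=
      (isRadical_of_isEssential d.P.2 hR).2.le ⟨_, hcore, rfl⟩
    rw [inn_eq_autInducedBy, mem_autInducedBy_iff] at hinn
    obtain ⟨y, hy, hy'⟩ := hinn
    exact ⟨y, hy, fun r hr => (hy' ⟨r, hr⟩ : _)⟩

theorem aut_fixes_T (ψ : MulAut X) (hψG : ∀ a ∈ d.G, ψ a ∈ d.G) (hψT : ∀ t ∈ d.T, ψ t ∈ d.T)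
    (hψS : ∀ s ∈ d.S, ψ s = s) (hfaith : ∀ t ∈ d.T, (∀ a ∈ d.G, t * a = a * t) → t = 1)
    (hO : ∀ N : Subgroup X, N.Normal → N ≤ d.G → Odd (Nat.card N) → N = ⊥) :
    ∀ t ∈ d.T, ψ t = t := by
  haveI := d.normal
  set F := groupFusionSystem (d.P : Subgroup X)
  set W : Subgroup X := Subgroup.closure {w | ∃ t ∈ d.T, w = t⁻¹ * ψ t} with hW
  have hWT : W ≤ d.T := (Subgroup.closure_le _).mpr fun w ⟨t, ht, h⟩ =>
    h ▸ mul_mem (inv_mem ht) (hψT t ht)
  have hWconj : ∀ v ∈ d.T, ∀ w ∈ W, v * w * v⁻¹ ∈ W := by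
    intro v hv w hw
    have hle : W.map (MulAut.conj v).toMonoidHom ≤ W := by
      rw [hW, MonoidHom.map_closure, Subgroup.closure_le]
      rintro _ ⟨_, ⟨t, ht, rfl⟩, rfl⟩
      show v * (t⁻¹ * ψ t) * v⁻¹ ∈ Subgroup.closure _
      have e' : v * (t⁻¹ * ψ t) * v⁻¹ =
          ((t * v⁻¹)⁻¹ * ψ (t * v⁻¹)) * ((v⁻¹)⁻¹ * ψ v⁻¹)⁻¹ := by
        rw [map_mul]; group
      rw [e']
      exact mul_mem (Subgroup.subset_closure ⟨_, mul_mem ht (inv_mem hv), rfl⟩)
        (inv_mem (Subgroup.subset_closure ⟨_, inv_mem hv, rfl⟩))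
    exact hle ⟨w, hw, rfl⟩
  have hgen : ∀ R : Subgroup X, (R = (d.P : Subgroup X) ∨ F.IsEssential 2 R) →
      d.T ≤ R ∧ ∀ a ∈ d.G, a ∈ Subgroup.normalizer (R : Set X) → ∀ w ∈ W, a * w * a⁻¹ = w := by
    intro R hR
    have hRP : R ≤ (d.P : Subgroup X) := by
      rcases hR with rfl | hR
      · exact le_rfl
      · exact hR.1.1
    have hTR : d.T ≤ R := by
      rcases hR with rfl | hR
      · exact d.T_le_P
      · exact d.T_le_of_radical hR.1 (isRadical_of_isEssential d.P.2 hR)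
    have hψR : ∀ r ∈ R, ψ r ∈ R := by
      intro r hr
      obtain ⟨s, hs, v, hv, rfl⟩ := d.exists_eq_mul (hRP hr)
      rw [map_mul, hψS s hs]
      exact mul_mem (by simpa using mul_mem hr (inv_mem (hTR hv))) (hTR (hψT v hv))
    refine ⟨hTR, fun a haG haR w hw => ?_⟩
    have haN : ψ a ∈ Subgroup.normalizer (R : Set X) := by
      refine mem_normalizer_of_conj_mem (S := (d.P : Subgroup X)) hRP fun r hr => ?_
      have hmap : R.map ψ.toMonoidHom = R := Subgroup.eq_of_le_of_card_ge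
        (fun _ ⟨y, hy, he⟩ => he ▸ hψR y hy)
        (Nat.card_congr (R.equivMapOfInjective _ ψ.injective).toEquiv).le
      obtain ⟨r₀, hr₀, rfl⟩ := hmap.ge hr
      show ψ a * ψ r₀ * (ψ a)⁻¹ ∈ R
      rw [← map_inv, ← map_mul, ← map_mul]
      exact hψR _ ((Subgroup.mem_normalizer_iff.mp haR r₀).mp hr₀)
    set a' := a⁻¹ * ψ a with ha'
    have hfix : ∀ r ∈ R, r ∈ d.G → a' * r * a'⁻¹ = r := by
      intro r hr hrG
      have h1 : a * r * a⁻¹ ∈ R := (Subgroup.mem_normalizer_iff.mp haR r).mp hr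
      have h2 : ψ (a * r * a⁻¹) = a * r * a⁻¹ := hψS _ (d.mem_S (hRP h1) (d.conj_mem_G a hrG))
      rw [map_mul, map_mul, map_inv, hψS r (d.mem_S (hRP hr) hrG)] at h2
      calc a' * r * a'⁻¹ = a⁻¹ * (ψ a * r * (ψ a)⁻¹) * a := by rw [ha']; group
        _ = r := by rw [h2]; group
    obtain ⟨y, hy, hy'⟩ := d.exists_inner hR (x := a')
      (mul_mem (inv_mem haR) haN) (mul_mem (inv_mem haG) (hψG a haG)) hfix
    have ha'T : ∀ t ∈ d.T, a' * t * a'⁻¹ = t := by
      intro t ht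
      have h := hy' t (hTR ht)
      obtain ⟨s, hs, v, hv, rfl⟩ := d.exists_eq_mul (hRP hy)
      have hvt : v * t * v⁻¹ ∈ d.T := mul_mem (mul_mem hv ht) (inv_mem hv)
      have h' : a' * t * a'⁻¹ = v * t * v⁻¹ := by
        rw [h]
        calc s * v * t * (s * v)⁻¹ = s * (v * t * v⁻¹) * s⁻¹ := by group
          _ = v * t * v⁻¹ := by rw [d.comm s hs _ hvt]; group
      rw [h']
      have hG' : (v * t * v⁻¹) * t⁻¹ ∈ d.G := by
        rw [← h']
        have : a' * t * a'⁻¹ * t⁻¹ = a' * (t * a'⁻¹ * t⁻¹) := by group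
        rw [this]
        exact mul_mem (mul_mem (inv_mem haG) (hψG a haG))
          (d.conj_mem_G t (inv_mem (mul_mem (inv_mem haG) (hψG a haG))))
      exact mul_inv_eq_one.mp (d.eq_of_mem_of_mem hG' (mul_mem hvt (inv_mem ht)))
    induction hw using Subgroup.closure_induction with
    | mem w hw =>
      obtain ⟨t, ht, rfl⟩ := hw
      set κ := a * t * a⁻¹ * t⁻¹ with hκ
      have hκR : κ ∈ R :=
        mul_mem ((Subgroup.mem_normalizer_iff.mp haR t).mp (hTR ht)) (inv_mem (hTR ht))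
      have hκG : κ ∈ d.G := by
        have : κ = a * (t * a⁻¹ * t⁻¹) := by rw [hκ]; group
        rw [this]
        exact mul_mem haG (d.conj_mem_G t (inv_mem haG))
      have h2 : ψ κ = κ := hψS κ (d.mem_S (hRP hκR) hκG)
      have h3 : ψ a * ψ t * (ψ a)⁻¹ = a * ψ t * a⁻¹ := by
        calc ψ a * ψ t * (ψ a)⁻¹ = a * (a' * ψ t * a'⁻¹) * a⁻¹ := by rw [ha']; group
          _ = a * ψ t * a⁻¹ := by rw [ha'T _ (hψT t ht)]
      rw [hκ, map_mul, map_mul, map_mul, map_inv, map_inv, h3] at h2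
      have h4 : a * ψ t * a⁻¹ = κ * ψ t := by
        rw [hκ, ← h2]; group
      have h5 : a * t * a⁻¹ = κ * t := by rw [hκ]; group
      calc a * (t⁻¹ * ψ t) * a⁻¹ = (a * t * a⁻¹)⁻¹ * (a * ψ t * a⁻¹) := by group
        _ = t⁻¹ * ψ t := by rw [h4, h5]; group
    | one => group
    | mul x y _ _ hx hy =>
      calc a * (x * y) * a⁻¹ = (a * x * a⁻¹) * (a * y * a⁻¹) := by group
        _ = x * y := by rw [hx, hy]
    | inv x _ hx =>
      calc a * x⁻¹ * a⁻¹ = (a * x * a⁻¹)⁻¹ := by group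
        _ = x⁻¹ := by rw [hx]
  have hWP : W ≤ (d.P : Subgroup X) := hWT.trans d.T_le_P
  have hnorm : F.IsNormal W := by
    refine isNormal_of_generators d.P.2 (isSaturated_group d.P) hWP fun R hR => ?_
    obtain ⟨hTR, hcomm⟩ := hgen R hR
    refine ⟨hWT.trans hTR, fun α hα w hw => ?_⟩
    have hRP : R ≤ (d.P : Subgroup X) := by
      rcases hR with rfl | hR
      · exact le_rfl
      · exact hR.1.1
    rw [autGroup_groupFusionSystem d.P hRP, mem_autInducedBy_iff] at hα
    obtain ⟨x, -, hx⟩ := hα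
    rw [autFun_apply α (hWT.trans hTR hw), hx]
    obtain ⟨a, ha, v, hv, rfl⟩ := d.exists_decomp x
    have hxR : a * v ∈ Subgroup.normalizer (R : Set X) :=
      mem_normalizer_of_conj_mem (S := (d.P : Subgroup X)) hRP fun r hr => by
        rw [← hx ⟨r, hr⟩]; exact SetLike.coe_mem _
    have haR : a ∈ Subgroup.normalizer (R : Set X) := by
      simpa using mul_mem hxR (inv_mem (Subgroup.le_normalizer (hTR hv)))
    have h1 := hWconj v hv w hw
    show a * v * w * (a * v)⁻¹ ∈ W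
    rw [show a * v * w * (a * v)⁻¹ = a * (v * w * v⁻¹) * a⁻¹ by group, hcomm a ha haR _ h1]
    exact h1
  suffices hbot : W = ⊥ by
    intro t ht
    have : t⁻¹ * ψ t ∈ W := Subgroup.subset_closure ⟨t, ht, rfl⟩
    rw [hbot, Subgroup.mem_bot, inv_mul_eq_one] at this
    exact this.symm
  by_contra hne
  have hsc := stronglyClosed_of_isNormal hnorm
  haveI : (W.subgroupOf d.T).Normal := Subgroup.normal_subgroupOf_of_le_normalizer fun v hv =>
    mem_normalizer_of_conj_mem (S := (d.P : Subgroup X)) hWP fun w hw => hWconj v hv w hw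
  have hWne : W.subgroupOf d.T ≠ ⊥ := fun h => hne (by
    rw [Subgroup.subgroupOf_eq_bot, disjoint_iff, inf_eq_left.mpr hWT] at h
    exact h)
  obtain ⟨⟨w, hwT⟩, hwin, hw1⟩ : ∃ x : d.T, x ∈ W.subgroupOf d.T ⊓ Subgroup.center d.T ∧ x ≠ 1 := by
    by_contra hcon
    push Not at hcon
    exact IsolatedMin.inf_center_ne_bot (d.P.2.to_le d.T_le_P) (W.subgroupOf d.T) hWne
      ((Subgroup.eq_bot_iff_forall _).mpr hcon)
  obtain ⟨hwW, hwZ⟩ := Subgroup.mem_inf.mp hwin
  obtain ⟨j, hj⟩ := IsPGroup.iff_orderOf.mp (d.P.2.to_le d.T_le_P) (⟨w, hwT⟩ : d.T)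
  rcases j with _ | j
  · exact hw1 (orderOf_eq_one_iff.mp (by rw [hj, pow_zero]))
  set z := (⟨w, hwT⟩ : d.T) ^ 2 ^ j with hzdef
  have hz2 : orderOf (z : X) = 2 := by
    rw [Subgroup.orderOf_coe, hzdef, orderOf_pow' _ (by positivity), hj, pow_succ,
      Nat.gcd_eq_right (dvd_mul_right _ _), Nat.mul_div_cancel_left _ (Nat.two_pow_pos j)]
  have hzW : (z : X) ∈ W := by
    rw [hzdef, Subgroup.coe_pow]; exact pow_mem hwW _
  have hzc : ∀ v ∈ d.T, v * (z : X) * v⁻¹ = z := fun v hv => by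
    have h := congrArg Subtype.val (Subgroup.mem_center_iff.mp (pow_mem hwZ (2 ^ j)) ⟨v, hv⟩)
    rw [← hzdef] at h
    simp only [Subgroup.coe_mul] at h
    rw [h, mul_inv_cancel_right]
  have hiso : ∀ g : X, g * (z : X) * g⁻¹ ∈ (d.P : Subgroup X) → g * (z : X) * g⁻¹ = z := by
    intro g hg
    obtain ⟨a, ha, v, hv, rfl⟩ := d.exists_decomp g
    have hin : a * v * (z : X) * (a * v)⁻¹ ∈ W := by
      have hle : Subgroup.zpowers (z : X) ≤ (d.P : Subgroup X) := Subgroup.zpowers_le.mpr (hWP hzW)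
      refine isMap_mem_of_stronglyClosed hsc (isMap_group_of_conj (a * v) hle fun x hx => ?_)
        (Subgroup.mem_zpowers _) hzW
      obtain ⟨k, rfl⟩ := hx
      rw [← conj_zpow]
      exact zpow_mem hg k
    have hG' : a * v * (z : X) * (a * v)⁻¹ * (z : X)⁻¹ ∈ d.G := by
      have : a * v * (z : X) * (a * v)⁻¹ * (z : X)⁻¹ =
          a * ((z : X) * a⁻¹ * (z : X)⁻¹) := by
        calc _ = a * (v * (z : X) * v⁻¹) * a⁻¹ * (z : X)⁻¹ := by group
          _ = _ := by rw [hzc v hv]; group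
      rw [this]
      exact mul_mem ha (d.conj_mem_G _ (inv_mem ha))
    exact mul_inv_eq_one.mp (d.eq_of_mem_of_mem hG' (mul_mem (hWT hin) (inv_mem z.2)))
  have hcore := ZStar.commutatorsInCore_of_isolated
    (Invol.isolated_of_sylow d.P hz2 (hWP hzW) hiso)
  haveI : (pPrimeCore 2 X).Normal := Transfer.pPrimeCore_normal 2 X
  have hN := hO (d.G ⊓ pPrimeCore 2 X) (Subgroup.normal_inf_normal _ _) inf_le_left
    (Odd.of_dvd_nat ZStar.odd_card_core (Subgroup.card_dvd_of_le inf_le_right))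
  have hz1 : (z : X) = 1 := hfaith _ z.2 fun a ha => by
    have : (z : X) * a * (z : X)⁻¹ * a⁻¹ ∈ d.G ⊓ pPrimeCore 2 X :=
      Subgroup.mem_inf.mpr ⟨mul_mem (d.conj_mem_G _ ha) (inv_mem ha), hcore a⟩
    rw [hN, Subgroup.mem_bot, mul_inv_eq_one, mul_inv_eq_iff_eq_mul] at this
    exact this
  rw [hz1, orderOf_one] at hz2
  omega

end SplitData

end CfsgLib.OddConseq
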