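import Cfsg.Agent.Lib.OddConseq.Basic
import Cfsg.Agent.Lib.OddConseq.SylowFixAut

/-!
# The group of automorphisms fixing a Sylow 2-subgroup pointwise
-/

set_option autoImplicit false

namespace CfsgLib.OddConseq

open Cfsg

universe u

theorem sylow_fixing_aut (hFT : OddSolvable.{u}) {G : Type u} [Group G] [Finite G]
    (hO : ∀ N : Subgroup G, N.Normal → Odd (Nat.card N) → N = ⊥) (S : Sylow 2 G)
    (C : Subgroup (MulAut G)) (hC : ∀ φ : MulAut G, φ ∈ C ↔ ∀ s : G, s ∈ S → φ s = s) :
    (∀ T : Sylow 2 ↥C, (∀ a b : ↥T, a * b = b * a) ∧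
      ∃ N : Subgroup ↥C, N.Normal ∧ Subgroup.IsComplement' N (T : Subgroup ↥C)) ∧
      Group.IsSolvable ↥C := by
  have := Fintype.ofFinite G
  haveI : Finite (MulAut G) := Finite.of_injective (fun f : MulAut G => (f : G → G)) DFunLike.coe_injective
  have main : ∀ T : Sylow 2 ↥C,
      Subgroup.normalizer ((T : Subgroup ↥C) : Set ↥C) ≤
        Subgroup.centralizer ((T : Subgroup ↥C) : Set ↥C) := by
    intro T c hc
    let φ : ↥(T : Subgroup ↥C) →* MulAut G := C.subtype.comp (T : Subgroup ↥C).subtype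
    haveI : Finite (G ⋊[φ] ↥(T : Subgroup ↥C)) := Finite.of_equiv _ SemidirectProduct.equivProd.symm
    have hfix : ∀ (t : ↥(T : Subgroup ↥C)) (s : G), s ∈ S → φ t s = s := fun t s hs =>
      (hC _).mp (t : ↥C).2 s hs
    let iG : G →* (G ⋊[φ] ↥(T : Subgroup ↥C)) := SemidirectProduct.inl
    let iT : ↥(T : Subgroup ↥C) →* (G ⋊[φ] ↥(T : Subgroup ↥C)) := SemidirectProduct.inr
    have hcomm : ∀ (s : ↥(S : Subgroup G)) (t : ↥(T : Subgroup ↥C)),
        Commute (iG.comp (S : Subgroup G).subtype s) (iT t) := fun s t => by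
      refine SemidirectProduct.ext ?_ ?_
      · simp [iG, iT, hfix t s s.2]
      · simp [iG, iT]
    let j := MonoidHom.noncommCoprod (iG.comp (S : Subgroup G).subtype) iT hcomm
    have hjinj : Function.Injective j := by
      rintro ⟨s, t⟩ ⟨s', t'⟩ h
      simp only [j, MonoidHom.noncommCoprod_apply, iG, iT, MonoidHom.comp_apply,
        SemidirectProduct.ext_iff] at h
      simp at h
      rw [h.1, h.2]
    have hjcard : Nat.card j.range = 2 ^ (Nat.card (G ⋊[φ] ↥(T : Subgroup ↥C))).factorization 2 := by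
      obtain ⟨b, hb⟩ := IsPGroup.iff_card.mp T.2
      rw [← Nat.card_congr (MonoidHom.ofInjective hjinj).toEquiv, Nat.card_prod,
        S.card_eq_multiplicity, SemidirectProduct.card, hb,
        Nat.factorization_mul Nat.card_pos.ne' (by positivity), Finsupp.add_apply,
        Nat.prime_two.factorization_pow, Finsupp.single_eq_same, pow_add]
    let d : SplitData (G ⋊[φ] ↥(T : Subgroup ↥C)) :=
      { G := iG.range
        T := iT.range
        S := (S : Subgroup G).map iG
        P := Sylow.ofCard j.range hjcard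
        normal := by
          show (SemidirectProduct.inl : G →* (G ⋊[φ] ↥(T : Subgroup ↥C))).range.Normal
          rw [SemidirectProduct.range_inl_eq_ker_rightHom]
          infer_instance
        eqP := by
          show j.range = _
          rw [MonoidHom.noncommCoprod_range, MonoidHom.range_comp, Subgroup.range_subtype]
        leG := Subgroup.map_le_range _ _
        disj := (Subgroup.eq_bot_iff_forall _).mpr fun x hx => by
          obtain ⟨⟨g, rfl⟩, t, ht⟩ := Subgroup.mem_inf.mp hx
          have := congrArg (fun y : (G ⋊[φ] ↥(T : Subgroup ↥C)) => y.right) ht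
          simp [iG, iT] at this
          rw [← ht, this, map_one]
        sup := by
          rw [eq_top_iff]
          intro x _
          rw [← SemidirectProduct.inl_left_mul_inr_right x]
          exact Subgroup.mul_mem_sup ⟨_, rfl⟩ ⟨_, rfl⟩
        comm := by
          rintro _ ⟨s, hs, rfl⟩ _ ⟨t, rfl⟩
          exact hcomm ⟨s, hs⟩ t }
    let fg : ↥(T : Subgroup ↥C) ≃* ↥(T : Subgroup ↥C) :=
      { toFun := fun t => ⟨c * t * c⁻¹, (Subgroup.mem_normalizer_iff.mp hc t).mp t.2⟩
        invFun := fun t => ⟨c⁻¹ * t * c, by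
          simpa using (Subgroup.mem_normalizer_iff.mp (inv_mem hc) t).mp t.2⟩
        left_inv := fun t => Subtype.ext (by simp [mul_assoc])
        right_inv := fun t => Subtype.ext (by simp [mul_assoc])
        map_mul' := fun a b => Subtype.ext (by simp [mul_assoc]) }
    let ψ : MulAut (G ⋊[φ] ↥(T : Subgroup ↥C)) := SemidirectProduct.congr ((c : MulAut G)) fg fun t =>
      MulEquiv.ext fun g => by
        show (c : MulAut G) ((t : ↥C).1 g) = ((c : ↥C).1 * (t : ↥C).1 * (c : ↥C).1⁻¹) ((c : MulAut G) g)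
        simp [MulAut.mul_apply]
    have key := d.aut_fixes_T ψ ?_ ?_ ?_ ?_ ?_
    · refine Subgroup.mem_centralizer_iff.mpr fun t ht => ?_
      have h := congrArg (fun y : (G ⋊[φ] ↥(T : Subgroup ↥C)) => (y.right : ↥C)) (key (iT ⟨t, ht⟩) ⟨_, rfl⟩)
      simp [ψ, iT, fg] at h
      exact (mul_inv_eq_iff_eq_mul.mp h).symm
    · rintro _ ⟨g, rfl⟩
      exact ⟨(c : MulAut G) g, by simp [ψ, iG, fg, SemidirectProduct.ext_iff]; rfl⟩
    · rintro _ ⟨t, rfl⟩
      exact ⟨fg t, by simp [ψ, iT, SemidirectProduct.ext_iff]⟩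
    · rintro _ ⟨s, hs, rfl⟩
      simp [ψ, iG, fg, SemidirectProduct.ext_iff, (hC _).mp c.2 s hs]
    · rintro _ ⟨t, rfl⟩ ht
      have : φ t = 1 := MulEquiv.ext fun g => by
        have h := congrArg (fun y : (G ⋊[φ] ↥(T : Subgroup ↥C)) => y.left) (ht (iG g) ⟨g, rfl⟩)
        simpa [iG, iT] using h
      have ht1 : t = 1 := Subtype.ext (Subtype.ext this)
      rw [ht1, map_one]
    · intro N hN hle hodd
      have hcard : Nat.card (N.comap iG) = Nat.card N :=
        Nat.card_congr ((N.comap iG).equivMapOfInjective iG SemidirectProduct.inl_injective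
          |>.toEquiv.trans (Equiv.setCongr (by rw [Subgroup.map_comap_eq_self hle])))
      have h := hO _ (hN.comap iG) (hcard ▸ hodd)
      rw [← Subgroup.map_comap_eq_self hle, h, Subgroup.map_bot]
  refine ⟨fun T => ⟨fun a b => Subtype.ext
    ((main T (Subgroup.le_normalizer b.2) a a.2)), _, inferInstance,
    MonoidHom.ker_transferSylow_isComplement' T (main T)⟩, ?_⟩
  obtain ⟨T⟩ : Nonempty (Sylow 2 ↥C) := inferInstance
  set f := MonoidHom.transferSylow T (main T)
  haveI : Group.IsSolvable f.ker := hFT _ (Nat.odd_iff.mpr (Nat.two_dvd_ne_zero.mp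
    (MonoidHom.not_dvd_card_ker_transferSylow T (main T))))
  haveI : Group.IsSolvable ↥(T : Subgroup ↥C) :=
    isSolvable_of_comm fun a b => Subtype.ext ((main T (Subgroup.le_normalizer b.2) a a.2))
  exact solvable_of_ker_le_range f.ker.subtype f (by rw [Subgroup.range_subtype])

end CfsgLib.OddConseq
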