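import Mathlib
import Cfsg.Prelude.Def_KGroupFacts
import Cfsg.Agent.Lib.OddConseq.Basic
import Cfsg.Agent.Lib.OddConseq.SylowFixC

/-!
# Solvability of outer automorphism groups from the Sylow 2-subgroup

By the Frattini argument the automorphisms normalizing a Sylow 2-subgroup `S` cover the outer
automorphism group; those fixing `S` pointwise form a solvable group.
-/

set_option autoImplicit false
set_option linter.style.haveILetI false

namespace CfsgLib.OddConseq

open Cfsg

universe u

variable {G : Type u} [Group G]

/-- The automorphisms mapping a subgroup onto itself. -/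
def invAut (S : Subgroup G) : Subgroup (MulAut G) where
  carrier := {α | ∀ g, g ∈ S ↔ α g ∈ S}
  one_mem' := fun g => Iff.rfl
  mul_mem' := fun {α β} ha hb g => (hb g).trans (by rw [MulAut.mul_apply]; exact ha (β g))
  inv_mem' := fun {α} ha g => by
    rw [MulAut.inv_def, ha (α.symm g), MulEquiv.apply_symm_apply]

/-- Restriction of the invariant automorphisms to the subgroup. -/
def resAut (S : Subgroup G) : ↥(invAut S) →* MulAut ↥S :=
  MonoidHom.mk'
    (fun α => { toFun := fun s => ⟨(α : MulAut G) s, (α.2 s).mp s.2⟩
                invFun := fun s => ⟨(α : MulAut G).symm s,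
                  (α.2 _).mpr (by rw [MulEquiv.apply_symm_apply]; exact s.2)⟩
                left_inv := fun s => Subtype.ext ((α : MulAut G).symm_apply_apply _)
                right_inv := fun s => Subtype.ext ((α : MulAut G).apply_symm_apply _)
                map_mul' := fun s t => Subtype.ext (map_mul (α : MulAut G) (s : G) (t : G)) })
    fun α β => MulEquiv.ext fun s => Subtype.ext rfl

theorem resAut_apply (S : Subgroup G) (α : ↥(invAut S)) (s : ↥S) :
    ((resAut S α s : ↥S) : G) = (α : MulAut G) s := rfl

variable [Finite G]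

/-- The automorphisms normalizing a Sylow subgroup cover the outer automorphism group. -/
theorem invAut_covers_out {p : ℕ} [Fact p.Prime] (S : Sylow p G) :
    Function.Surjective ((QuotientGroup.mk' (Inn G)).comp (invAut (S : Subgroup G)).subtype) := by
  intro q
  obtain ⟨α, rfl⟩ := QuotientGroup.mk'_surjective _ q
  obtain ⟨g, hg⟩ := MulAction.exists_smul_eq G (S.mapSurjective (f := α.toMonoidHom) α.surjective) S
  have hg' : ((S : Subgroup G).map α.toMonoidHom).map (MulAut.conj g).toMonoidHom = (S : Subgroup G) := by
    conv_rhs => rw [← hg]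
    rfl
  refine ⟨⟨MulAut.conj g * α, fun x => ⟨fun hx => ?_, fun hx => ?_⟩⟩, ?_⟩
  · exact hg'.le ⟨α x, ⟨x, hx, rfl⟩, rfl⟩
  · obtain ⟨_, ⟨y, hy, rfl⟩, he⟩ := hg'.ge hx
    rwa [← α.injective ((MulAut.conj g).injective he)]
  · show QuotientGroup.mk (MulAut.conj g * α) = QuotientGroup.mk α
    refine QuotientGroup.eq.mpr ?_
    rw [mul_inv_rev, mul_assoc]
    exact Subgroup.Normal.conj_mem' inferInstance _ (inv_mem (show MulAut.conj g ∈ Inn G from ⟨g, rfl⟩)) α

/-- If the restriction to a Sylow 2-subgroup has solvable image, the outer automorphism group is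
solvable. -/
theorem out_solvable_of_range (hFT : OddSolvable.{u}) [IsSimpleGroup G] (S : Sylow 2 G)
    (hS1 : (S : Subgroup G) ≠ ⊥) (hr : Group.IsSolvable (resAut (S : Subgroup G)).range) :
    Group.IsSolvable (Out G) := by
  haveI : Fact (Nat.Prime 2) := ⟨Nat.prime_two⟩
  have hO : ∀ N : Subgroup G, N.Normal → Odd (Nat.card N) → N = ⊥ := by
    intro N hN hodd
    rcases IsSimpleGroup.eq_bot_or_eq_top_of_normal N hN with h | h
    · exact h
    · exfalso
      refine hS1 (Subgroup.eq_bot_of_card_eq _ ?_)
      rw [S.card_eq_multiplicity, Nat.factorization_eq_zero_of_not_dvd, pow_zero]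
      rw [h, Subgroup.card_top] at hodd
      exact hodd.not_two_dvd_nat
  set C : Subgroup (MulAut G) := (resAut (S : Subgroup G)).ker.map (invAut (S : Subgroup G)).subtype
    with hCdef
  have hC : ∀ φ : MulAut G, φ ∈ C ↔ ∀ s : G, s ∈ S → φ s = s := by
    intro φ
    constructor
    · rintro ⟨α, hα, rfl⟩ s hs
      have := congrArg (fun f : MulAut ↥(S : Subgroup G) => ((f ⟨s, hs⟩ : ↥(S : Subgroup G)) : G))
        (MonoidHom.mem_ker.mp hα)
      exact this
    · intro h
      refine ⟨⟨φ, fun g => ⟨fun hg => (h g hg).symm ▸ hg, fun hg => ?_⟩⟩, ?_, rfl⟩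
      · rwa [← φ.injective (h (φ g) hg)]
      · exact MonoidHom.mem_ker.mpr (MulEquiv.ext fun s => Subtype.ext (h s s.2))
  haveI : Group.IsSolvable ↥C := (sylow_fixing_aut hFT hO S C hC).2
  haveI : Group.IsSolvable ↥(resAut (S : Subgroup G)).ker :=
    Group.isSolvable_of_isSolvable_injective (f := (invAut (S : Subgroup G)).subtype.subgroupMap
      (resAut (S : Subgroup G)).ker) fun a b h => by
        have h1 := congrArg (fun x : ↥C => (x : MulAut G)) h
        exact Subtype.ext ((invAut (S : Subgroup G)).subtype_injective h1)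
  haveI := hr
  haveI : Group.IsSolvable ↥(invAut (S : Subgroup G)) := Group.isSolvable_of_ker_le_range
    (resAut (S : Subgroup G)).ker.subtype (resAut (S : Subgroup G)).rangeRestrict
    (by rw [MonoidHom.ker_rangeRestrict, Subgroup.range_subtype])
  exact Group.isSolvable_of_surjective (invAut_covers_out S)

/-- The outer automorphism group of a simple group is solvable when its Sylow 2-subgroup has solvable
automorphism group. -/
theorem out_solvable_of_aut (hFT : OddSolvable.{u}) [IsSimpleGroup G] (S : Sylow 2 G)
    (hS1 : (S : Subgroup G) ≠ ⊥) (hS : Group.IsSolvable (MulAut ↥(S : Subgroup G))) :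
    Group.IsSolvable (Out G) :=
  out_solvable_of_range hFT S hS1 (Group.isSolvable_of_isSolvable_injective (Subgroup.subtype_injective _))

end CfsgLib.OddConseq
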