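import Cfsg.Agent.Lib.OddConseq.Hall

/-!
# π-separable groups satisfy D_π
-/

set_option autoImplicit false

open Pointwise

namespace CfsgLib.OddConseq

universe u

theorem separable_dpi (hFT : OddSolvable.{u}) {G : Type u} [Group G] [Finite G] (π : Set ℕ)
    (hsep : Separable π G) :
    (∃ K : Subgroup G, Cfsg.IsPiHall π K) ∧
      (∀ K L : Subgroup G, Cfsg.IsPiHall π K → Cfsg.IsPiHall π L →
        ∃ g : G, L = K.map (MulAut.conj g).toMonoidHom) ∧
      ∀ U : Subgroup G, (∀ q : ℕ, q.Prime → q ∣ Nat.card U → q ∈ π) →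
        ∃ K : Subgroup G, Cfsg.IsPiHall π K ∧ U ≤ K := by
  obtain ⟨K₀, hK₀, hdom⟩ := exists_dominating_hall hFT π _ G rfl hsep
  have hcard : ∀ K : Subgroup G, Cfsg.IsPiHall π K → Nat.card K = Nat.card K₀ := by
    intro K hK
    have key : ∀ A B : Subgroup G, Cfsg.IsPiHall π A → Cfsg.IsPiHall π B →
        Nat.card A ∣ Nat.card B := fun A B hA hB => by
      refine (Nat.Coprime.dvd_of_dvd_mul_right (IsPiNum.coprime (π := π) hA.1
        fun q hq h hqπ => hB.2 q hq hqπ h) ?_)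
      rw [Subgroup.card_mul_index]
      exact Subgroup.card_subgroup_dvd_card A
    exact Nat.dvd_antisymm (key K K₀ hK hK₀) (key K₀ K hK₀ hK)
  have hto : ∀ K : Subgroup G, Cfsg.IsPiHall π K → ∃ g : G, K = MulAut.conj g • K₀ := by
    intro K hK
    obtain ⟨g, hg⟩ := hdom K hK.1
    exact ⟨g, Subgroup.eq_of_le_of_card_ge hg (by rw [Coprime.card_conj_smul, hcard K hK])⟩
  refine ⟨⟨K₀, hK₀⟩, fun K L hK hL => ?_, fun U hU => ?_⟩
  · obtain ⟨a, rfl⟩ := hto K hK
    obtain ⟨b, rfl⟩ := hto L hL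
    refine ⟨b * a⁻¹, ?_⟩
    rw [← Coprime.conj_smul_eq_map, smul_smul, ← map_mul, inv_mul_cancel_right]
  · obtain ⟨g, hg⟩ := hdom U hU
    refine ⟨MulAut.conj g • K₀, ⟨fun q hq hd => ?_, fun q hq hqπ hd => ?_⟩, hg⟩
    · rw [Coprime.card_conj_smul] at hd
      exact hK₀.1 q hq hd
    · rw [Coprime.conj_smul_eq_map,
        Subgroup.index_map_of_bijective (MulEquiv.bijective (MulAut.conj g))] at hd
      exact hK₀.2 q hq hqπ hd

end CfsgLib.OddConseq
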