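import Cfsg.Agent.Lib.OddConseq.Basic
import Cfsg.Agent.Lib.ZStar.TwoElement

/-!
# A non-abelian 2-group sharing its centralizer with a central commutator

If `G = NQ` with `Q` a 2-group and `C_N(Q) = C_N(t)` for some `t ∈ Z(Q) ∩ Q'`, then the powers of
`t` are weakly closed in a Sylow 2-subgroup, so `[N,Q]` has odd order by the Z*-theorem.
-/

set_option autoImplicit false

namespace CfsgLib.OddConseq

open Cfsg

open scoped commutatorElement

universe u

variable {G : Type u} [Group G] [Finite G] {N Q : Subgroup G} {t : G}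

omit [Finite G] in
/-- A map of `Q` with commuting values and the homomorphism property kills `⁅Q,Q⁆`. -/
theorem eq_one_of_mem_commutator {κ : G → G} (hmul : ∀ a ∈ Q, ∀ b ∈ Q, κ (a * b) = κ a * κ b)
    (hcomm : ∀ a ∈ Q, ∀ b ∈ Q, Commute (κ a) (κ b)) {x : G} (hx : x ∈ ⁅Q, Q⁆) : κ x = 1 := by
  have h1 : κ 1 = 1 := by
    have h := hmul 1 (one_mem Q) 1 (one_mem Q)
    rw [one_mul] at h
    exact left_eq_mul.mp h
  have hinv : ∀ a ∈ Q, κ a⁻¹ = (κ a)⁻¹ := fun a ha =>
    eq_inv_of_mul_eq_one_left (by rw [← hmul _ (inv_mem ha) _ ha, inv_mul_cancel, h1])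
  let K : Subgroup G :=
    { carrier := {a | a ∈ Q ∧ κ a = 1}
      one_mem' := ⟨one_mem Q, h1⟩
      mul_mem' := fun ha hb => ⟨mul_mem ha.1 hb.1, by rw [hmul _ ha.1 _ hb.1, ha.2, hb.2, mul_one]⟩
      inv_mem' := fun ha => ⟨inv_mem ha.1, by rw [hinv _ ha.1, ha.2, inv_one]⟩ }
  have hle : ⁅Q, Q⁆ ≤ K := Subgroup.commutator_le.mpr fun a ha b hb => by
    refine ⟨mul_mem (mul_mem (mul_mem ha hb) (inv_mem ha)) (inv_mem hb), ?_⟩
    show κ ⁅a, b⁆ = 1
    rw [commutatorElement_def, hmul _ (mul_mem (mul_mem ha hb) (inv_mem ha)) _ (inv_mem hb),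
      hmul _ (mul_mem ha hb) _ (inv_mem ha), hmul _ ha _ hb, hinv _ ha, hinv _ hb,
      (hcomm a ha b hb).eq]
    group
  exact (hle hx).2

omit [Finite G] in
theorem mem_centralizer_of_commute (hC : N ⊓ Subgroup.centralizer (Q : Set G) =
    N ⊓ Subgroup.centralizer ({t} : Set G)) {x : G} (hx : x ∈ N) (h : x * t = t * x) :
    x ∈ Subgroup.centralizer (Q : Set G) := by
  have : x ∈ N ⊓ Subgroup.centralizer ({t} : Set G) :=
    ⟨hx, Subgroup.mem_centralizer_singleton_iff.mpr h⟩
  rw [← hC] at this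
  exact this.2

theorem sharedCentralizer (hFT : OddSolvable.{u}) [N.Normal] (hG : Q ⊔ N = ⊤) (hQ : IsPGroup 2 Q)
    (hdisj : Q ⊓ N = ⊥) (htZ : t ∈ Q ⊓ Subgroup.centralizer (Q : Set G)) (htQ : t ∈ ⁅Q, Q⁆)
    (hC : N ⊓ Subgroup.centralizer (Q : Set G) = N ⊓ Subgroup.centralizer ({t} : Set G)) :
    Group.IsSolvable ↥⁅N, Q⁆ ∧ Odd (Nat.card ↥⁅N, Q⁆) := by
  classical
  obtain ⟨S, hQS⟩ := hQ.exists_le_sylow
  set CQ := Subgroup.centralizer (Q : Set G)
  set SN := (S : Subgroup G) ⊓ N with hSN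
  have hcq : ∀ {x : G}, x ∈ CQ → ∀ q ∈ Q, q * x = x * q := fun hx q hq => hx q hq
  -- `Q` centralizes `S ∩ N`
  have h1 : SN ≤ CQ := by
    by_contra hcon
    set R := SN ⊓ CQ with hR
    have hQSN : Q ≤ Subgroup.normalizer (SN : Set G) := fun q hq =>
      Subgroup.mem_normalizer_iff.mpr fun x => by
        constructor
        · rintro ⟨hx, hxN⟩
          exact Subgroup.mem_inf.mpr ⟨mul_mem (mul_mem (hQS hq) hx) (inv_mem (hQS hq)),
            Subgroup.Normal.conj_mem inferInstance x hxN q⟩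
        · rintro ⟨hx, hxN⟩
          have hx' : x = q⁻¹ * (q * x * q⁻¹) * q := by group
          rw [hx']
          refine Subgroup.mem_inf.mpr ⟨mul_mem (mul_mem (inv_mem (hQS hq)) hx) (hQS hq), ?_⟩
          simpa using Subgroup.Normal.conj_mem inferInstance _ hxN q⁻¹
    have hQR : Q ≤ Subgroup.normalizer (R : Set G) := fun q hq => by
      refine Subgroup.centralizer_le_normalizer _ (Subgroup.mem_centralizer_iff.mpr fun r hr => ?_)
      exact (hcq (Subgroup.mem_inf.mp (show r ∈ R from hr)).2 q hq).symm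
    set M := SN ⊓ Subgroup.normalizer (R : Set G) with hM
    have hMR : ¬ M ≤ R := by
      intro hle
      haveI : Group.IsNilpotent SN := (S.2.to_le inf_le_left).isNilpotent
      have hlt : R.subgroupOf SN < ⊤ := lt_top_iff_ne_top.mpr fun h => hcon fun x hx =>
        ((Subgroup.subgroupOf_eq_top.mp h) hx).2
      obtain ⟨x, hx, hxR⟩ := SetLike.exists_of_lt
        (Group.normalizerCondition_of_isNilpotent _ hlt)
      refine hxR (hle ⟨x.2, ?_⟩)
      refine Subgroup.mem_normalizer_iff.mpr fun y => ?_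
      have key : ∀ z : SN, ∀ y : G, y ∈ R → z ∈ Subgroup.normalizer ((R.subgroupOf SN) : Set SN) →
          (z : G) * y * (z : G)⁻¹ ∈ R := fun z y hy hz =>
        (Subgroup.mem_normalizer_iff.mp hz ⟨y, hy.1⟩).mp (show y ∈ R from hy)
      constructor
      · exact fun hy => key x y hy hx
      · intro hy
        have := key x⁻¹ _ hy (inv_mem hx)
        simpa [mul_assoc] using this
    -- a non-trivial coset of `R` fixed by `Q`
    have hDnorm : ∀ D : Subgroup G, D ≤ M → ⁅D, Q⁆ ≤ M := fun D hD =>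
      Subgroup.commutator_le.mpr fun d hd q hq => by
        have hqM : q ∈ Subgroup.normalizer (M : Set G) := Subgroup.mem_normalizer_iff.mpr fun y => by
          rw [hM, Subgroup.mem_inf, Subgroup.mem_inf]
          refine and_congr (Subgroup.mem_normalizer_iff.mp (hQSN hq) y) ?_
          constructor
          · exact fun hy => (Subgroup.normalizer (R : Set G)).mul_mem
              ((Subgroup.normalizer (R : Set G)).mul_mem (hQR hq) hy)
              ((Subgroup.normalizer (R : Set G)).inv_mem (hQR hq))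
          · intro hy
            have h := (Subgroup.normalizer (R : Set G)).mul_mem
              ((Subgroup.normalizer (R : Set G)).mul_mem
                ((Subgroup.normalizer (R : Set G)).inv_mem (hQR hq)) hy) (hQR hq)
            simpa [mul_assoc] using h
        rw [commutatorElement_def, mul_assoc, mul_assoc, ← mul_assoc q]
        exact mul_mem (hD hd) ((Subgroup.mem_normalizer_iff.mp hqM _).mp (inv_mem (hD hd)))
    let D : ℕ → Subgroup G := fun n => Nat.rec M (fun _ D => ⁅D, Q⁆) n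
    have hD0 : D 0 = M := rfl
    have hDs : ∀ n, D (n + 1) = ⁅D n, Q⁆ := fun n => rfl
    have hDM : ∀ n, D n ≤ M := fun n => by
      induction n with
      | zero => exact le_rfl
      | succ n ih => exact hDnorm _ ih
    haveI : Group.IsNilpotent (S : Subgroup G) := S.2.isNilpotent
    have hDlow : ∀ n, D n ≤ (Subgroup.lowerCentralSeries (⊤ : Subgroup (S : Subgroup G)) n).map
        (S : Subgroup G).subtype := fun n => by
      induction n with
      | zero =>
        rw [Subgroup.lowerCentralSeries_zero, ← MonoidHom.range_eq_map, Subgroup.range_subtype]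
        exact inf_le_left.trans inf_le_left
      | succ n ih =>
        rw [hDs, Subgroup.lowerCentralSeries_succ, Subgroup.map_commutator]
        refine Subgroup.commutator_mono ih ?_
        rw [← MonoidHom.range_eq_map, Subgroup.range_subtype]
        exact hQS
    obtain ⟨n, hn⟩ : ∃ n, D n ≤ R := by
      obtain ⟨n, hn⟩ := Subgroup.nilpotent_iff_lowerCentralSeries.mp
        (inferInstance : Group.IsNilpotent (S : Subgroup G))
      exact ⟨n, (hDlow n).trans (by rw [hn, Subgroup.map_bot]; exact bot_le)⟩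
    obtain ⟨i, hi, hi'⟩ : ∃ i, ¬ D i ≤ R ∧ D (i + 1) ≤ R := by
      induction n with
      | zero => exact absurd hn hMR
      | succ n ih =>
        by_cases h : D n ≤ R
        · exact ih h
        · exact ⟨n, h, hn⟩
    obtain ⟨v, hv, hvR⟩ := SetLike.not_le_iff_exists.mp hi
    have hvM : v ∈ M := hDM i hv
    set κ := fun q : G => v⁻¹ * q * v * q⁻¹ with hκ
    have hκR : ∀ q ∈ Q, κ q ∈ R := fun q hq => by
      have h := hi' (Subgroup.commutator_mem_commutator hv hq)
      have h2 := (Subgroup.mem_normalizer_iff.mp (inv_mem hvM.2) _).mp (inv_mem h)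
      convert h2 using 1
      simp only [hκ, commutatorElement_def]
      group
    have hmul : ∀ a ∈ Q, ∀ b ∈ Q, κ (a * b) = κ a * κ b := fun a ha b hb => by
      have h := hcq (hκR b hb).2 a⁻¹ (inv_mem ha)
      calc κ (a * b) = v⁻¹ * a * v * (κ b * a⁻¹) := by simp only [hκ]; group
        _ = v⁻¹ * a * v * (a⁻¹ * κ b) := by rw [h]
        _ = κ a * κ b := by simp only [hκ]; group
    have hcommR : ∀ q ∈ Q, ∀ r ∈ R, κ q * r = r * κ q := fun q hq r hr => by
      have h1 : v * r * v⁻¹ ∈ R := (Subgroup.mem_normalizer_iff.mp hvM.2 r).mp hr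
      have h2 := hcq h1.2 q hq
      have h3 : v⁻¹ * q * v * r = r * (v⁻¹ * q * v) := by
        calc v⁻¹ * q * v * r = v⁻¹ * (q * (v * r * v⁻¹)) * v := by group
          _ = v⁻¹ * (v * r * v⁻¹ * q) * v := by rw [h2]
          _ = r * (v⁻¹ * q * v) := by group
      have h4 := hcq hr.2 q⁻¹ (inv_mem hq)
      calc κ q * r = v⁻¹ * q * v * (q⁻¹ * r) := by simp only [hκ]; group
        _ = v⁻¹ * q * v * r * q⁻¹ := by rw [h4]; group
        _ = r * (v⁻¹ * q * v) * q⁻¹ := by rw [h3]
        _ = r * κ q := by simp only [hκ]; group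
    have hκt := eq_one_of_mem_commutator hmul
      (fun a ha b hb => hcommR a ha _ (hκR b hb)) htQ
    refine hvR ⟨hvM.1, mem_centralizer_of_commute hC hvM.1.2 ?_⟩
    calc v * t = v * (κ t) * t * (1 : G) := by rw [hκt, mul_one, mul_one]
      _ = t * v := by simp only [hκ]; group
  -- conjugates of `Q` inside `S` come from `C_N(Q)`
  have h2 : ∀ m ∈ N, (∀ q ∈ Q, m * q * m⁻¹ ∈ (S : Subgroup G)) → m ∈ CQ := by
    intro m hm hmS
    set κ := fun q : G => q⁻¹ * (m * q * m⁻¹) with hκ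
    have hκSN : ∀ q ∈ Q, κ q ∈ SN := fun q hq => by
      refine Subgroup.mem_inf.mpr ⟨mul_mem (inv_mem (hQS hq)) (hmS q hq), ?_⟩
      have : q⁻¹ * (m * q * m⁻¹) = q⁻¹ * m * q * m⁻¹ := by group
      show q⁻¹ * (m * q * m⁻¹) ∈ N
      rw [this]
      exact mul_mem (by simpa using Subgroup.Normal.conj_mem inferInstance m hm q⁻¹) (inv_mem hm)
    have hk : ∀ a ∈ Q, ∀ b ∈ Q, b * κ a = κ a * b := fun a ha b hb => hcq (h1 (hκSN a ha)) b hb
    have hmul : ∀ a ∈ Q, ∀ b ∈ Q, κ (a * b) = κ a * κ b := fun a ha b hb => by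
      calc κ (a * b) = b⁻¹ * κ a * b * κ b := by simp only [hκ]; group
        _ = κ a * κ b := by rw [mul_assoc b⁻¹, ← hk a ha b hb, inv_mul_cancel_left]
    have htQ' : t ∈ Q := htZ.1
    have hconj : ∀ a ∈ Q, m * a * m⁻¹ = a * κ a := fun a _ => by simp only [hκ]; group
    -- `κ q` commutes with `m t m⁻¹`
    have hkt : ∀ a ∈ Q, κ a * κ t = κ t * κ a := fun a ha => by
      have hta : a * t = t * a := htZ.2 a ha
      rw [← hmul a ha t htQ', ← hmul t htQ' a ha, hta]
    have hcomm : ∀ a ∈ Q, ∀ b ∈ Q, Commute (κ a) (κ b) := fun a ha b hb => by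
      have hat : κ a * (t * κ t) = t * κ t * κ a := by
        calc κ a * (t * κ t) = t * (κ a * κ t) := by rw [← mul_assoc, ← hk a ha t htQ', mul_assoc]
          _ = t * κ t * κ a := by rw [hkt a ha]; exact (mul_assoc _ _ _).symm
      have hmem : m⁻¹ * κ a * m ∈ CQ := by
        refine mem_centralizer_of_commute hC
          (by simpa using Subgroup.Normal.conj_mem inferInstance _ (hκSN a ha).2 m⁻¹) ?_
        rw [← hconj t htQ'] at hat
        calc m⁻¹ * κ a * m * t = m⁻¹ * (κ a * (m * t * m⁻¹)) * m := by group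
          _ = m⁻¹ * (m * t * m⁻¹ * κ a) * m := by rw [hat]
          _ = t * (m⁻¹ * κ a * m) := by group
      have hb' := hcq hmem b hb
      have hab : κ a * (b * κ b) = b * κ b * κ a := by
        rw [← hconj b hb]
        calc κ a * (m * b * m⁻¹) = m * (m⁻¹ * κ a * m * b) * m⁻¹ := by group
          _ = m * (b * (m⁻¹ * κ a * m)) * m⁻¹ := by rw [hb']
          _ = m * b * m⁻¹ * κ a := by group
      rw [← mul_assoc, ← hk a ha b hb, mul_assoc, mul_assoc b] at hab
      exact mul_left_cancel hab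
    have hκt := eq_one_of_mem_commutator hmul hcomm htQ
    refine mem_centralizer_of_commute hC hm ?_
    calc m * t = t * κ t * m := by rw [← hconj t htQ']; group
      _ = t * m := by rw [hκt, mul_one]
  -- the powers of `t` are weakly closed in `S`
  have hGNQ : ∀ g : G, ∃ n ∈ N, ∃ q ∈ Q, g = n * q := fun g => by
    obtain ⟨n, hn, q, hq, h⟩ := Subgroup.mem_sup_of_normal_left.mp
      ((sup_comm Q N).symm ▸ hG ▸ Subgroup.mem_top g : g ∈ N ⊔ Q)
    exact ⟨n, hn, q, hq, h.symm⟩
  have hpw : ZStar.PowersWeaklyClosed (S : Subgroup G) t := by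
    refine ⟨hQS htZ.1, fun k g hg => ?_⟩
    obtain ⟨n, hn, q, hq, rfl⟩ := hGNQ g
    set x := t ^ k with hx
    have hxQ : x ∈ Q := pow_mem htZ.1 k
    have hxc : ∀ q ∈ Q, q * x = x * q := fun q hq => (pow_mem htZ.2 k : x ∈ CQ) q hq
    have hqx : n * q * x * (n * q)⁻¹ = n * x * n⁻¹ := by
      rw [mul_assoc n q x, hxc q hq]; group
    rw [hqx] at hg ⊢
    set s := x⁻¹ * (n * x * n⁻¹) with hs
    have hsN : s ∈ SN := by
      refine Subgroup.mem_inf.mpr ⟨mul_mem (inv_mem (hQS hxQ)) hg, ?_⟩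
      have : s = x⁻¹ * n * x * n⁻¹ := by rw [hs]; group
      rw [this]
      exact mul_mem (by simpa using Subgroup.Normal.conj_mem inferInstance n hn x⁻¹) (inv_mem hn)
    have hQx' : ∀ q ∈ Q, q * (n * x * n⁻¹) = n * x * n⁻¹ * q := fun q hq => by
      have hxs : n * x * n⁻¹ = x * s := by rw [hs]; group
      rw [hxs]
      calc q * (x * s) = x * (q * s) := by rw [← mul_assoc, hxc q hq, mul_assoc]
        _ = x * s * q := by rw [hcq (h1 hsN) q hq]; exact (mul_assoc _ _ _).symm
    set C := Subgroup.centralizer ({x} : Set G)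
    have hSC : (S : Subgroup G) ≤ C := fun y hy => by
      rw [Subgroup.mem_centralizer_singleton_iff]
      obtain ⟨n', hn', q', hq', rfl⟩ := hGNQ y
      have hn'S : n' ∈ SN := Subgroup.mem_inf.mpr ⟨by simpa using mul_mem hy (inv_mem (hQS hq')), hn'⟩
      rw [mul_assoc, hxc q' hq', ← mul_assoc, ← hcq (h1 hn'S) x hxQ, mul_assoc]
    have hP : IsPGroup 2 ((Q.map (MulAut.conj n⁻¹).toMonoidHom).subgroupOf C) :=
      (hQ.map _).comap_of_injective _ C.subtype_injective
    obtain ⟨T, hT⟩ := hP.exists_le_sylow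
    obtain ⟨c, hc⟩ := MulAction.exists_smul_eq C T (S.subtype hSC)
    have hto : ∀ q ∈ Q, (c : G) * n⁻¹ * q * ((c : G) * n⁻¹)⁻¹ ∈ (S : Subgroup G) := fun q hq => by
      have hmem : n⁻¹ * q * n ∈ C := by
        rw [Subgroup.mem_centralizer_singleton_iff]
        calc n⁻¹ * q * n * x = n⁻¹ * (q * (n * x * n⁻¹)) * n := by group
          _ = n⁻¹ * (n * x * n⁻¹ * q) * n := by rw [hQx' q hq]
          _ = x * (n⁻¹ * q * n) := by group
      have h : (⟨_, hmem⟩ : C) ∈ (T : Subgroup C) := hT ⟨q, hq, by simp [MulAut.conj_apply]⟩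
      have h2 : c * ⟨_, hmem⟩ * c⁻¹ ∈ ((c • T : Sylow 2 C) : Subgroup C) := by
        rw [Sylow.coe_subgroup_smul, Subgroup.mem_pointwise_smul_iff_inv_smul_mem]
        simpa [mul_assoc] using h
      rw [hc, Sylow.coe_subtype, Subgroup.mem_subgroupOf] at h2
      convert h2 using 1
      simp only [Subgroup.coe_mul, Subgroup.coe_inv]
      group
    obtain ⟨m, hm, q₁, hq₁, hcm⟩ := hGNQ ((c : G) * n⁻¹)
    have hmC : m ∈ CQ := h2 m hm fun q hq => by
      have h := hto (q₁⁻¹ * q * q₁) (mul_mem (mul_mem (inv_mem hq₁) hq) hq₁)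
      rw [hcm] at h
      simpa [mul_assoc] using h
    have hcx : (c : G) * x = x * c := Subgroup.mem_centralizer_singleton_iff.mp c.2
    have hnx : (c : G) * n⁻¹ * x = x * ((c : G) * n⁻¹) := by
      rw [hcm, mul_assoc, hxc q₁ hq₁, ← mul_assoc, ← hcq hmC x hxQ, mul_assoc]
    calc n * x * n⁻¹ = n * ((c : G)⁻¹ * (x * c)) * n⁻¹ := by rw [← hcx]; group
      _ = n * (c : G)⁻¹ * (x * ((c : G) * n⁻¹)) := by group
      _ = n * (c : G)⁻¹ * ((c : G) * n⁻¹ * x) := by rw [hnx]
      _ = x := by group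
  have hcore := ZStar.commutatorsInCore_of_powers S hpw
  set W := N ⊓ pPrimeCore 2 G with hW
  haveI : (pPrimeCore 2 G).Normal := Transfer.pPrimeCore_normal 2 G
  haveI : W.Normal := Subgroup.normal_inf_normal _ _
  have hWodd : Odd (Nat.card W) :=
    Odd.of_dvd_nat ZStar.odd_card_core (Subgroup.card_dvd_of_le inf_le_right)
  have hle : ⁅N, Q⁆ ≤ W := Subgroup.commutator_le.mpr fun n hn q hq => by
    have ht2 : IsPGroup 2 (Subgroup.zpowers t) := hQ.to_le (Subgroup.zpowers_le.mpr htZ.1)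
    have hn2 : IsPGroup 2 (Subgroup.zpowers (n⁻¹ * t * n)) := by
      have := ht2.map (MulAut.conj n⁻¹).toMonoidHom
      rw [MonoidHom.map_zpowers] at this
      have e : (MulAut.conj n⁻¹).toMonoidHom t = n⁻¹ * t * n := by
        show n⁻¹ * t * n⁻¹⁻¹ = _
        rw [inv_inv]
      rwa [e] at this
    have hmem : n⁻¹ * t * n * t⁻¹ ∈ W := by
      refine Subgroup.mem_inf.mpr ⟨?_, ?_⟩
      · have : n⁻¹ * t * n * t⁻¹ = n⁻¹ * (t * n * t⁻¹) := by group
        rw [this]
        exact mul_mem (inv_mem hn) (Subgroup.Normal.conj_mem inferInstance n hn t)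
      · have h := Subgroup.Normal.conj_mem inferInstance _ (hcore n) n⁻¹
        convert h using 1
        group
    obtain ⟨o, ho, hoe⟩ := ZStar.exists_conj_eq_of_mul_mem
      (Nat.coprime_two_right.mpr hWodd) ht2 hn2 hmem
    have hc : n * o⁻¹ ∈ CQ := mem_centralizer_of_commute hC (mul_mem hn (inv_mem ho.1)) (by
      conv_lhs => rw [← hoe]
      group)
    have hcc := hcq hc q⁻¹ (inv_mem hq)
    have : ⁅n, q⁆ = n * o⁻¹ * ⁅o, q⁆ * (n * o⁻¹)⁻¹ := by
      calc ⁅n, q⁆ = n * o⁻¹ * (o * q * o⁻¹) * ((n * o⁻¹)⁻¹ * q⁻¹) := by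
            rw [commutatorElement_def]; group
        _ = n * o⁻¹ * (o * q * o⁻¹) * ((n * o⁻¹)⁻¹ * (q⁻¹ * (n * o⁻¹)) * (n * o⁻¹)⁻¹) := by group
        _ = n * o⁻¹ * (o * q * o⁻¹) * ((n * o⁻¹)⁻¹ * ((n * o⁻¹) * q⁻¹) * (n * o⁻¹)⁻¹) := by rw [hcc]
        _ = _ := by rw [commutatorElement_def]; group
    rw [this]
    refine Subgroup.Normal.conj_mem inferInstance _ ?_ _
    rw [commutatorElement_def, mul_assoc, mul_assoc, ← mul_assoc q]
    exact mul_mem ho (Subgroup.Normal.conj_mem inferInstance _ (inv_mem ho) q)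
  have hodd : Odd (Nat.card ↥⁅N, Q⁆) := Odd.of_dvd_nat hWodd (Subgroup.card_dvd_of_le hle)
  exact ⟨hFT _ hodd, hodd⟩

end CfsgLib.OddConseq
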